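import Groth.Agent.Lim8.K117.Desc
import Groth.Agent.S0591

/-!
# Schemes of finite presentation over the limit come from a stage over a given qcqs stage
-/

set_option autoImplicit false
universe u
open CategoryTheory CategoryTheory.Limits AlgebraicGeometry

namespace K117.Model

open Groth.Agent.Ega43.LimitDescend

variable {I : Type u} [SmallCategory I] [IsCofiltered I]
    (D : I ⥤ Scheme.{u}) (c : Limits.Cone D)

theorem exists_model (hc : Limits.IsLimit c)
    [∀ (i j : I) (f : i ⟶ j), IsAffineHom (D.map f)] (i₀ : I)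
    [CompactSpace (D.obj i₀)] [QuasiSeparatedSpace (D.obj i₀)] {X : Scheme.{u}} (f : X ⟶ c.pt)
    [LocallyOfFinitePresentation f] [QuasiCompact f] [QuasiSeparated f] :
    ∃ (i : I) (_ : i ⟶ i₀) (Xi : Scheme.{u}) (fi : Xi ⟶ D.obj i) (g : X ⟶ Xi),
      LocallyOfFinitePresentation fi ∧ QuasiCompact fi ∧ QuasiSeparated fi ∧
      IsPullback g f fi (c.π.app i) := by
  obtain ⟨i, M, fM, p, h1, h2, h3, hM⟩ := Groth.Agent.S0591.result (Over.forget i₀ ⋙ D)
    (overCone c i₀) (isLimitOverCone c hc i₀) X f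
  exact ⟨i.left, i.hom, M, fM, p, h1, h2, h3, hM⟩

/-- Base change of a model to a later stage. -/
theorem isPullback_later {X : Scheme.{u}} {f : X ⟶ c.pt} {i j : I} (a : j ⟶ i) {Xi : Scheme.{u}}
    {fi : Xi ⟶ D.obj i} {g : X ⟶ Xi} (h : IsPullback g f fi (c.π.app i)) :
    IsPullback (pullback.lift g (f ≫ c.π.app j) (by rw [Category.assoc, c.w, h.w])) f
      (pullback.snd fi (D.map a)) (c.π.app j) := by
  refine IsPullback.of_right (h₁₂ := pullback.fst fi (D.map a)) (h₂₂ := D.map a) (v₁₃ := fi) ?_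
    (pullback.lift_snd _ _ _) (IsPullback.of_hasPullback fi (D.map a))
  rw [pullback.lift_fst, c.w]
  exact h

/-- A finitely presented morphism to the limit with a property `P` which descends comes from such a morphism. -/
theorem exists_model_prop (hc : Limits.IsLimit c)
    [∀ (i j : I) (f : i ⟶ j), IsAffineHom (D.map f)] (i₀ : I)
    [CompactSpace (D.obj i₀)] [QuasiSeparatedSpace (D.obj i₀)]
    {P : MorphismProperty Scheme.{u}} [P.IsStableUnderBaseChange] [IsZariskiLocalAtTarget P]
    (hP : DescendsLim P) {X : Scheme.{u}} (f : X ⟶ c.pt)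
    [LocallyOfFinitePresentation f] [QuasiCompact f] [QuasiSeparated f] (hf : P f) :
    ∃ (i : I) (_ : i ⟶ i₀) (Xi : Scheme.{u}) (fi : Xi ⟶ D.obj i) (g : X ⟶ Xi),
      LocallyOfFinitePresentation fi ∧ QuasiCompact fi ∧ QuasiSeparated fi ∧ P fi ∧
      IsPullback g f fi (c.π.app i) := by
  obtain ⟨i, a, M, fM, p, h1, h2, h3, hM⟩ := exists_model D c hc i₀ f
  have hcp : CompactSpace (D.obj i) := QuasiCompact.compactSpace_of_compactSpace (D.map a)
  have hP' : P (pullback.snd fM (c.π.app i)) :=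
    Groth.Agent.Smoothlim.LimBase.snd_of_isPullback P hM hf
  obtain ⟨j, φ, hj⟩ := K117.Desc.exists_stage (K117.Desc.descendsAffine_of_descendsLim hP)
    D c hc i fM ⟨⟨h1, h2⟩, h3⟩ hP'
  exact ⟨j, φ ≫ a, pullback fM (D.map φ), pullback.snd _ _, _, inferInstance, inferInstance,
    inferInstance, hj, isPullback_later D c φ hM⟩

end K117.Model
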