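import Groth.Agent.Ega43.LimitDescendImm
import Groth.Agent.Ega43.LimitDescendOpen
import Groth.Agent.Ega43.LimitDescendIso
import Groth.Agent.Ega43.LimitDescendClosed
import Groth.Agent.Smoothlim.LimDescend

/-!
# Descent of properties of finitely presented morphisms over a quasi-compact stage

`LimitDescend.DescendsLim P` (over qcqs stages) implies `LimBase.DescendsAffine FPQ P`, hence (for `P` local at the
target and stable under base change) descent over a stage which is only quasi-compact.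
-/

set_option autoImplicit false
universe u
open CategoryTheory CategoryTheory.Limits AlgebraicGeometry

namespace K117.Desc

open Groth.Agent.Ega43.LimitDescend Groth.Agent.Smoothlim.LimBase

/-- Finitely presented morphisms. -/
abbrev FPQ : MorphismProperty Scheme.{u} := (@LocallyOfFinitePresentation ⊓ @QuasiCompact) ⊓ @QuasiSeparated

instance : MorphismProperty.IsStableUnderBaseChange (FPQ.{u}) :=
  inferInstanceAs (((@LocallyOfFinitePresentation ⊓ @QuasiCompact) ⊓ @QuasiSeparated :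
    MorphismProperty Scheme.{u}).IsStableUnderBaseChange)

theorem descendsAffine_of_descendsLim {P : MorphismProperty Scheme.{u}} (hP : DescendsLim P) :
    DescendsAffine.{u} FPQ P := by
  intro α _ _ _ F c hc B t ht b hb X f hf hPf
  have h1 : LocallyOfFinitePresentation f := hf.1.1
  have h2 : QuasiCompact f := hf.1.2
  have h3 : QuasiSeparated f := hf.2
  have ha : ∀ {i j : αᵒᵖ} (φ : i ⟶ j), IsAffineHom ((F.op ⋙ Scheme.Spec).map φ) := fun φ ↦
    inferInstanceAs (IsAffineHom (Spec.map _))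
  have hc' : ∀ j : αᵒᵖ, CompactSpace ((F.op ⋙ Scheme.Spec).obj j) := fun j ↦
    inferInstanceAs (CompactSpace (Spec _))
  have hq' : ∀ j : αᵒᵖ, QuasiSeparatedSpace ((F.op ⋙ Scheme.Spec).obj j) := fun j ↦
    inferInstanceAs (QuasiSeparatedSpace (Spec _))
  obtain ⟨j, hj⟩ := hP (F.op ⋙ Scheme.Spec) (Scheme.Spec.mapCone c.op)
    (isLimitOfPreserves Scheme.Spec hc.op) (B := Spec B) (fun j ↦ Spec.map (t j.unop))
    (fun {i j} φ ↦ by
      change Spec.map (F.map φ.unop) ≫ Spec.map (t j.unop) = Spec.map (t i.unop)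
      rw [← Spec.map_comp]
      congr 1
      exact ht _ _ (leOfHom φ.unop))
    f (Spec.map b) (fun j ↦ by
      change Spec.map (c.ι.app j.unop) ≫ Spec.map (t j.unop) = Spec.map b
      rw [← Spec.map_comp, hb])
    (pullback.fst f (Spec.map b)) (pullback.snd f (Spec.map b)) (IsPullback.of_hasPullback _ _) hPf
  exact ⟨j.unop, hj⟩

/-- Descent over a quasi-compact stage. -/
theorem exists_stage {P Q : MorphismProperty Scheme.{u}} [P.IsStableUnderBaseChange]
    [IsZariskiLocalAtTarget P] [Q.IsStableUnderBaseChange] (hA : DescendsAffine Q P)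
    {I : Type u} [SmallCategory I] [IsCofiltered I]
    (D : I ⥤ Scheme.{u}) (c : Cone D) (hc : IsLimit c)
    [∀ (i j : I) (f : i ⟶ j), IsAffineHom (D.map f)] (i₀ : I) [CompactSpace (D.obj i₀)]
    {Z₀ : Scheme.{u}} (f₀ : Z₀ ⟶ D.obj i₀) (hQ : Q f₀)
    (h : P (pullback.snd f₀ (c.π.app i₀))) :
    ∃ (j : I) (φ : j ⟶ i₀), P (pullback.snd f₀ (D.map φ)) := by
  have hY : IsPullback (c.π.app i₀) (𝟙 c.pt) (𝟙 (D.obj i₀)) (c.π.app i₀) :=
    (IsPullback.id_vert _).flip.flip
  obtain ⟨j, φ, hj⟩ := exists_descend hA D c hc i₀ f₀ (𝟙 _) (pullback.snd f₀ (c.π.app i₀)) (𝟙 _)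
    (c.π.app i₀) (pullback.fst f₀ (c.π.app i₀)) hY (IsPullback.of_hasPullback _ _) hQ h
  refine ⟨j, φ, ?_⟩
  have e : pullback.snd (𝟙 (D.obj i₀)) (D.map φ) ≫ D.map φ = pullback.fst (𝟙 (D.obj i₀)) (D.map φ) := by
    rw [← pullback.condition, Category.comp_id]
  have h1 := snd_comp P f₀ (pullback.fst (𝟙 (D.obj i₀)) (D.map φ))
    (inv (pullback.snd (𝟙 (D.obj i₀)) (D.map φ))) hj
  rwa [← e, IsIso.inv_hom_id_assoc] at h1

/-- Ascent from a stage to the limit. -/
theorem limit_of_stage {P : MorphismProperty Scheme.{u}} [P.IsStableUnderBaseChange]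
    {I : Type u} [SmallCategory I] (D : I ⥤ Scheme.{u}) (c : Cone D) (i₀ : I)
    {Z₀ : Scheme.{u}} (f₀ : Z₀ ⟶ D.obj i₀) {j : I} (φ : j ⟶ i₀)
    (h : P (pullback.snd f₀ (D.map φ))) : P (pullback.snd f₀ (c.π.app i₀)) := by
  have h1 := snd_comp P f₀ (D.map φ) (c.π.app j) h
  rwa [c.w φ] at h1

theorem iff_stage {P Q : MorphismProperty Scheme.{u}} [P.IsStableUnderBaseChange]
    [IsZariskiLocalAtTarget P] [Q.IsStableUnderBaseChange] (hA : DescendsAffine Q P)
    {I : Type u} [SmallCategory I] [IsCofiltered I]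
    (D : I ⥤ Scheme.{u}) (c : Cone D) (hc : IsLimit c)
    [∀ (i j : I) (f : i ⟶ j), IsAffineHom (D.map f)] (i₀ : I) [CompactSpace (D.obj i₀)]
    {Z₀ : Scheme.{u}} (f₀ : Z₀ ⟶ D.obj i₀) (hQ : Q f₀) :
    P (pullback.snd f₀ (c.π.app i₀)) ↔ ∃ (j : I) (φ : j ⟶ i₀), P (pullback.snd f₀ (D.map φ)) :=
  ⟨exists_stage hA D c hc i₀ f₀ hQ, fun ⟨_, φ, h⟩ ↦ limit_of_stage D c i₀ f₀ φ h⟩

/-- `f` factors through the monomorphism `m` iff the base change of `m` along `f` is an isomorphism. -/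
theorem isIso_fst_iff {X Y Z : Scheme.{u}} (f : X ⟶ Z) (m : Y ⟶ Z) [Mono m] :
    IsIso (pullback.fst f m) ↔ ∃ k : X ⟶ Y, k ≫ m = f := by
  constructor
  · intro h
    exact ⟨inv (pullback.fst f m) ≫ pullback.snd f m, by
      rw [Category.assoc, ← pullback.condition, IsIso.inv_hom_id_assoc]⟩
  · rintro ⟨k, hk⟩
    refine ⟨pullback.lift (𝟙 X) k (by rw [hk, Category.id_comp]), ?_, pullback.lift_fst _ _ _⟩
    rw [← cancel_mono (pullback.fst f m), Category.assoc, pullback.lift_fst, Category.comp_id,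
      Category.id_comp]

end K117.Desc
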