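import Groth.Agent.Lim8.K117.Desc

/-!
# Inclusions of subschemes of finite presentation descend from a limit to a stage
-/

set_option autoImplicit false
universe u
open CategoryTheory CategoryTheory.Limits AlgebraicGeometry

namespace K117.Fac

open Groth.Agent.Ega43.LimitDescend Groth.Agent.Smoothlim.LimBase K117.Desc

/-- `ι₁ ×_S T` factors through `ι₂ ×_S T` iff the base change of `Z₁ ×_S Z₂ ⟶ Z₁` to `Z₁ ×_S T` is an isomorphism. -/
theorem fac_iff_isIso {S Z₁ Z₂ T : Scheme.{u}} (ι₁ : Z₁ ⟶ S) (ι₂ : Z₂ ⟶ S) [Mono ι₂] (t : T ⟶ S) :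
    (∃ k : pullback ι₁ t ⟶ pullback ι₂ t, k ≫ pullback.snd ι₂ t = pullback.snd ι₁ t) ↔
      IsIso (pullback.snd (pullback.fst ι₁ ι₂) (pullback.fst ι₁ t)) := by
  constructor
  · rintro ⟨k, hk⟩
    have e : pullback.fst ι₁ t ≫ ι₁ = (k ≫ pullback.fst ι₂ t) ≫ ι₂ := by
      rw [Category.assoc, pullback.condition, pullback.condition, reassoc_of% hk]
    refine ⟨pullback.lift (pullback.lift (pullback.fst ι₁ t) (k ≫ pullback.fst ι₂ t) e) (𝟙 _)
      (by rw [pullback.lift_fst, Category.id_comp]), ?_, pullback.lift_snd _ _ _⟩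
    rw [← cancel_mono (pullback.snd (pullback.fst ι₁ ι₂) (pullback.fst ι₁ t)), Category.assoc,
      pullback.lift_snd, Category.comp_id, Category.id_comp]
  · intro h
    refine ⟨pullback.lift (inv (pullback.snd (pullback.fst ι₁ ι₂) (pullback.fst ι₁ t)) ≫
      pullback.fst _ _ ≫ pullback.snd ι₁ ι₂) (pullback.snd ι₁ t) ?_, pullback.lift_snd _ _ _⟩
    rw [Category.assoc, Category.assoc, ← pullback.condition, pullback.condition_assoc,
      IsIso.inv_hom_id_assoc, pullback.condition]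

theorem fac_iff {I : Type u} [SmallCategory I] [IsCofiltered I]
    (D : I ⥤ Scheme.{u}) (c : Limits.Cone D) (hc : Limits.IsLimit c)
    [∀ (i j : I) (f : i ⟶ j), IsAffineHom (D.map f)] (i₀ : I) [CompactSpace (D.obj i₀)]
    {Z₁ Z₂ : Scheme.{u}} (ι₁ : Z₁ ⟶ D.obj i₀) (ι₂ : Z₂ ⟶ D.obj i₀)
    [QuasiCompact ι₁] [Mono ι₂] [LocallyOfFinitePresentation ι₂] [QuasiCompact ι₂] :
    (∃ k : pullback ι₁ (c.π.app i₀) ⟶ pullback ι₂ (c.π.app i₀),
        k ≫ pullback.snd ι₂ (c.π.app i₀) = pullback.snd ι₁ (c.π.app i₀)) ↔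
      ∃ (j : I) (φ : j ⟶ i₀) (k : pullback ι₁ (D.map φ) ⟶ pullback ι₂ (D.map φ)),
        k ≫ pullback.snd ι₂ (D.map φ) = pullback.snd ι₁ (D.map φ) := by
  simp only [fac_iff_isIso]
  have : CompactSpace Z₁ := QuasiCompact.compactSpace_of_compactSpace ι₁
  have hQ : FPQ (pullback.fst ι₁ ι₂) := ⟨⟨inferInstance, inferInstance⟩, inferInstance⟩
  constructor
  · intro h
    exact exists_descend (P := MorphismProperty.isomorphisms Scheme.{u})
      (descendsAffine_of_descendsLim Groth.Agent.Ega43.LimitDescendIso.descendsLim_isomorphisms)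
      D c hc i₀ (pullback.fst ι₁ ι₂) ι₁ _ (pullback.snd ι₁ (c.π.app i₀)) (pullback.fst ι₁ (c.π.app i₀)) _
      (IsPullback.of_hasPullback _ _) (IsPullback.of_hasPullback _ _) hQ h
  · rintro ⟨j, φ, h⟩
    let k : pullback ι₁ (c.π.app i₀) ⟶ pullback ι₁ (D.map φ) :=
      pullback.lift (pullback.fst _ _) (pullback.snd _ _ ≫ c.π.app j) (by
        rw [Category.assoc, c.w, pullback.condition])
    have h1 := snd_comp (MorphismProperty.isomorphisms Scheme.{u}) (pullback.fst ι₁ ι₂)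
      (pullback.fst ι₁ (D.map φ)) k h
    have hk : k ≫ pullback.fst ι₁ (D.map φ) = pullback.fst ι₁ (c.π.app i₀) := pullback.lift_fst _ _ _
    rwa [hk] at h1

end K117.Fac
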