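import Groth.Agent.PerfB.HomLimSec
import Mathlib.RingTheory.TensorProduct.DirectLimitFG

/-!
# Sections of pullbacks of quasi-coherent modules along a cofiltered limit: no finiteness hypothesis

`exists_die`: a section over an affine open of the pullback of a quasi-coherent module `E` to a stage which dies in
the limit dies at a later stage (`PerfB.HomLim.exists_tr_tt` without the hypothesis that `E` is of finite type).
-/

set_option autoImplicit false
universe u v w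
open CategoryTheory CategoryTheory.Limits AlgebraicGeometry Opposite TopologicalSpace
open scoped TensorProduct

namespace K117.HomLimQ

open Groth.Agent.PerfB Groth.Agent.PerfB.HomLim
open Groth.Agent.Flat2F.BCSec Groth.Agent.VarietyB.PullSec PushPull FiltSec

section Algebra

variable {R A M Q : Type*} [CommRing R] [CommRing A] [Algebra R A] [AddCommGroup M] [Module R M]
  [AddCommGroup Q] [Module R Q] [Module A Q] [IsScalarTower R A Q]

theorem vanish' (f : M →ₗ[R] Q) (hf : IsBaseChange A f) {n : ℕ} (m : Fin n → M)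
    (r : Fin n → A) (h : ∑ i, r i • f (m i) = 0) :
    ∃ (n' : ℕ) (m' : Fin n' → M), TensorProduct.VanishesTrivially R (Sum.elim m m')
      (Sum.elim r (0 : Fin n' → A)) := by
  have h0 : ∑ i, m i ⊗ₜ[R] r i = 0 := by
    apply (TensorProduct.comm R M A).injective
    apply hf.equiv.injective
    rw [map_zero, map_zero, ← h]
    simp [map_sum]
  let P : Submodule R M := Submodule.span R (Set.range m)
  have hP : P.FG := Submodule.fg_span (Set.finite_range m)
  have hm (i : Fin n) : m i ∈ P := Submodule.subset_span ⟨i, rfl⟩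
  obtain ⟨K, hPK, hK, hK0⟩ := TensorProduct.eq_of_fg_of_subtype_eq (R := R) (N := A) hP
    (t := ∑ i, (⟨m i, hm i⟩ : P) ⊗ₜ[R] r i) (t' := 0) (by
      rw [map_zero, map_sum, ← h0]
      rfl)
  rw [map_zero, map_sum] at hK0
  obtain ⟨n', m', hm'⟩ := Submodule.fg_iff_exists_fin_generating_family.mp hK
  have hmK (i : Fin n) : m i ∈ K := hPK (hm i)
  have hmK' (i : Fin n') : m' i ∈ K := hm' ▸ Submodule.subset_span ⟨i, rfl⟩
  let μ : Fin n ⊕ Fin n' → K := Sum.elim (fun i ↦ ⟨m i, hmK i⟩) (fun i ↦ ⟨m' i, hmK' i⟩)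
  have hμ : Submodule.span R (Set.range μ) = ⊤ := by
    apply Submodule.map_injective_of_injective K.injective_subtype
    rw [Submodule.map_span, Submodule.map_top, Submodule.range_subtype]
    apply le_antisymm
    · rw [Submodule.span_le]
      rintro _ ⟨x, -, rfl⟩
      exact x.2
    · refine hm'.symm.le.trans (Submodule.span_mono ?_)
      rintro _ ⟨i, rfl⟩
      exact ⟨μ (Sum.inr i), ⟨Sum.inr i, rfl⟩, rfl⟩
  have hs : ∑ i, μ i ⊗ₜ[R] (Sum.elim r (0 : Fin n' → A)) i = 0 := by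
    rw [Fintype.sum_sum_type]
    simp only [Sum.elim_inl, Sum.elim_inr, Pi.zero_apply, TensorProduct.tmul_zero,
      Finset.sum_const_zero, add_zero]
    exact hK0
  obtain ⟨k, a, y, h1, h2⟩ := TensorProduct.vanishesTrivially_of_sum_tmul_eq_zero R hμ hs
  refine ⟨n', m', k, a, y, h1, fun j ↦ ?_⟩
  have h3 := congrArg K.subtype (h2 j)
  rw [map_sum, map_zero] at h3
  rw [← h3]
  refine Finset.sum_congr rfl fun i _ ↦ ?_
  rw [map_smul]
  congr 1
  cases i <;> rfl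

end Algebra

section Sec

variable {X Y : Scheme.{u}} (q : X ⟶ Y) {E : Y.Modules}

theorem vanish_sec' (hE : Coh.IsQCoh E) {V : Y.Opens} {W : X.Opens} (e : W ≤ q ⁻¹ᵁ V)
    (hV : IsAffineOpen V) (hW : IsAffineOpen W) {n : ℕ} (m : Fin n → Γ(E, V))
    (r : Fin n → Γ(X, W)) (h : ∑ i, r i • sec q E e (m i) = 0) :
    ∃ (n' : ℕ) (m' : Fin n' → Γ(E, V)) (k : ℕ) (a : Fin n ⊕ Fin n' → Fin k → Γ(Y, V))
      (y : Fin k → Γ(X, W)),
      (∀ i, Sum.elim r (0 : Fin n' → Γ(X, W)) i = ∑ j, q.appLE V W e (a i j) * y j) ∧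
      ∀ j, ∑ i, a i j • Sum.elim m m' i = 0 := by
  let j1 : Algebra Γ(Y, V) Γ(X, W) := (q.appLE V W e).hom.toAlgebra
  let j2 := secModule q E e
  have j3 : IsScalarTower Γ(Y, V) Γ(X, W) Γ((Scheme.Modules.pullback q).obj E, W) :=
    ⟨fun a b c => by rw [Algebra.smul_def, mul_smul]; rfl⟩
  obtain ⟨n', m', k, a, y, h1, h2⟩ := vanish' (secₗ q E e) (isBaseChange_secₗ q E e hE hV hW) m r h
  refine ⟨n', m', k, a, y, fun i => ?_, h2⟩
  rw [h1 i]
  exact Finset.sum_congr rfl fun j _ => Algebra.smul_def _ _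

end Sec

variable {Y : Scheme.{u}} {J : Type v} [Category.{w} J] [IsFiltered J] {Z : Jᵒᵖ ⥤ Over Y}
  {c : Cone Z} (hc : IsLim c) {E : Y.Modules}

include hc in
theorem exists_die_aux {V : Y.Opens} (hV : IsAffineOpen V) (j : J) {ι : Type} [Fintype ι]
    (μ : ι → Γ(E, V)) (ρ : ι → Γ(st Z j, pr Z j ⁻¹ᵁ V)) {kk : ℕ} (a : ι → Fin kk → Γ(Y, V))
    (y : Fin kk → Γ(c.pt.left, c.pt.hom ⁻¹ᵁ V))
    (hry : ∀ i, (qq c j).appLE _ _ (preimage_le (qq_pr c j) V) (ρ i) =
      ∑ j, c.pt.hom.appLE V _ le_rfl (a i j) * y j)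
    (ha : ∀ j, ∑ i, a i j • μ i = 0) :
    ∃ (k : J) (f : j ⟶ k), tr (tt Z f) _ _ (tt_pr Z f) E (preimage_le (tt_pr Z f) V)
      (∑ i, ρ i • sec (pr Z j) E (le_refl (pr Z j ⁻¹ᵁ V)) (μ i)) = 0 := by
  obtain ⟨k, f, y', hy'⟩ := exists_lift hc hV j y
  obtain ⟨l, g, hl⟩ := exists_kill hc hV k (fun i =>
    (tt Z f).appLE _ _ (preimage_le (tt_pr Z f) V) (ρ i) -
      ∑ i', (pr Z k).appLE V _ le_rfl (a i i') * y' i') (fun i => by
    rw [map_sub, appLE_tt_qq, hry, map_sum, sub_eq_zero]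
    refine Finset.sum_congr rfl fun i' _ => ?_
    rw [map_mul, hy', appLE_qq_pr])
  refine ⟨l, f ≫ g, ?_⟩
  have h3 : ∀ i, (tt Z (f ≫ g)).appLE _ _ (preimage_le (tt_pr Z (f ≫ g)) V) (ρ i) =
      ∑ i', (pr Z l).appLE V _ le_rfl (a i i') *
        (tt Z g).appLE _ _ (preimage_le (tt_pr Z g) V) (y' i') := by
    intro i
    have h4 := hl i
    rw [map_sub, sub_eq_zero, appLE_tt_tt, map_sum] at h4
    rw [h4]
    refine Finset.sum_congr rfl fun i' _ => ?_
    rw [map_mul, appLE_tt_pr]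
  rw [map_sum]
  have h5 : ∀ i, tr (tt Z (f ≫ g)) _ _ (tt_pr Z _) E (preimage_le (tt_pr Z _) V)
      (ρ i • sec (pr Z j) E (le_refl (pr Z j ⁻¹ᵁ V)) (μ i)) =
      ∑ i', (tt Z g).appLE _ _ (preimage_le (tt_pr Z g) V) (y' i') •
        sec (pr Z l) E (le_refl (pr Z l ⁻¹ᵁ V)) (a i i' • μ i) := by
    intro i
    rw [tr_smul, tr_sec _ _ _ _ _ _ _ (le_refl (pr Z l ⁻¹ᵁ V)), h3, Finset.sum_smul]
    refine Finset.sum_congr rfl fun i' _ => ?_
    rw [sec_smul, ← mul_smul, mul_comm]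
  simp only [h5]
  rw [Finset.sum_comm]
  refine Finset.sum_eq_zero fun i' _ => ?_
  rw [← Finset.smul_sum, ← map_sum, ha, map_zero, smul_zero]


include hc in
/-- A section over (the preimage of) an affine open of the pullback of the quasi-coherent module `E` to a stage which
dies in the limit dies at a later stage. -/
theorem exists_die (hE : Coh.IsQCoh E) {V : Y.Opens} (hV : IsAffineOpen V) (j : J)
    (t : Γ((Scheme.Modules.pullback (pr Z j)).obj E, pr Z j ⁻¹ᵁ V))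
    (ht : tr (qq c j) _ _ (qq_pr c j) E (preimage_le (qq_pr c j) V) t = 0) :
    ∃ (k : J) (f : j ⟶ k), tr (tt Z f) _ _ (tt_pr Z f) E (preimage_le (tt_pr Z f) V) t = 0 := by
  have := hc.affine'
  have := hc.affine j
  have hW : IsAffineOpen (c.pt.hom ⁻¹ᵁ V) := hV.preimage _
  have hWj : IsAffineOpen (pr Z j ⁻¹ᵁ V) := hV.preimage _
  have h1 := span_sec' (pr Z j) hE (le_refl (pr Z j ⁻¹ᵁ V)) hV hWj (id : Γ(E, V) → Γ(E, V)) (by simp)
  -- `t` is a finite combination of pulled back sections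
  obtain ⟨n, m, r, hr⟩ : ∃ (n : ℕ) (m : Fin n → Γ(E, V)) (r : Fin n → Γ(st Z j, pr Z j ⁻¹ᵁ V)),
      ∑ i, r i • sec (pr Z j) E (le_refl (pr Z j ⁻¹ᵁ V)) (m i) = t := by
    have h2 : t ∈ Submodule.span Γ(st Z j, pr Z j ⁻¹ᵁ V)
        (Set.range fun i => sec (pr Z j) E (le_refl (pr Z j ⁻¹ᵁ V)) (id i)) := by
      rw [h1]; exact Submodule.mem_top
    obtain ⟨n, r, g, hg⟩ := Submodule.mem_span_set'.mp h2
    choose m hm using fun i ↦ (g i).2
    refine ⟨n, m, r, ?_⟩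
    rw [← hg]
    refine Finset.sum_congr rfl fun i _ ↦ ?_
    rw [← hm i]
    rfl
  have h2 : ∑ i, (qq c j).appLE _ _ (preimage_le (qq_pr c j) V) (r i) •
      sec c.pt.hom E (le_refl (c.pt.hom ⁻¹ᵁ V)) (m i) = 0 := by
    rw [← ht, ← hr, map_sum]
    refine Finset.sum_congr rfl fun i _ => ?_
    rw [tr_smul, tr_sec _ _ _ _ _ _ _ (le_refl (c.pt.hom ⁻¹ᵁ V))]
  obtain ⟨n', m', kk, a, y, hry, ha⟩ := vanish_sec' c.pt.hom hE (le_refl (c.pt.hom ⁻¹ᵁ V)) hV hW m _ h2
  have h3 := exists_die_aux hc hV j (Sum.elim m m') (Sum.elim r 0) a y (by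
    intro i
    rw [← hry i]
    rcases i with i | i
    · rfl
    · exact map_zero _) ha
  have h4 : ∑ i, (Sum.elim r 0 : Fin n ⊕ Fin n' → Γ(st Z j, pr Z j ⁻¹ᵁ V)) i •
      sec (pr Z j) E (le_refl (pr Z j ⁻¹ᵁ V)) (Sum.elim m m' i) = t := by
    rw [Fintype.sum_sum_type, ← hr]
    simp only [Sum.elim_inl, Sum.elim_inr, Pi.zero_apply, zero_smul, Finset.sum_const_zero, add_zero]
  rwa [h4] at h3

set_option maxHeartbeats 1000000 in
include hc in
theorem injAt_qcoh (hE : Coh.IsQCoh E) {V : Y.Opens} (hV : IsAffineOpen V) : InjAt (cT c E) V := by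
  intro j t ht
  have h1 : tr (qq c j) _ _ (qq_pr c j) E (preimage_le (qq_pr c j) V) t = 0 :=
    (leg_app V j t).symm.trans ht
  obtain ⟨k, f, hf⟩ := exists_die hc hE hV j t h1
  exact ⟨k, f, (T_app V f t).trans hf⟩

end K117.HomLimQ
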