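import Groth.Agent.PerfB.LimMod
import Groth.Agent.Lim8.K117.HomLimQ

/-!
# Homomorphisms into quasi-coherent modules over a cofiltered limit of schemes

`D : I ⥤ Scheme` cofiltered with affine transition maps, `c` its limit, `i : I`, `G`, `E` modules on `D.obj i`, `G` of
finite presentation, `E` quasi-coherent (no finiteness hypothesis on `E`, otherwise as in `PerfB.LimMod`):
* `exists_hom`: (`D.obj i` qcqs) homs between the pullbacks of `G` and `E` to the limit come from a stage;
* `exists_eq`: (`D.obj i` quasi-compact) homs between pullbacks at a stage which agree on the limit agree at a later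
  stage.
-/

set_option autoImplicit false
universe u v w
open CategoryTheory CategoryTheory.Limits AlgebraicGeometry Opposite TopologicalSpace

namespace K117.HomStage

open Groth.Agent.PerfB Groth.Agent.PerfB.HomLim Groth.Agent.PerfB.PushPull Groth.Agent.PerfB.LimMod
  Groth.Agent.PerfB.FiltSec

section

variable {Y : Scheme.{u}} {J : Type v} [Category.{w} J] [IsFiltered J] {Z : Jᵒᵖ ⥤ Over Y}
  {c : Cone Z} (hc : IsLim c) {G E : Y.Modules} [CompactSpace Y] (hG : CohB1.IsFP G) (hE : Coh.IsQCoh E)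

include hc hG hE in
/-- Homs between pullbacks which agree on the limit agree at a later stage. -/
theorem exists_pull_eq (j : J)
    (φ ψ : (Scheme.Modules.pullback (pr Z j)).obj G ⟶ (Scheme.Modules.pullback (pr Z j)).obj E)
    (h : pullQ c j φ = pullQ c j ψ) : ∃ (k : J) (f : j ⟶ k), pullT Z f φ = pullT Z f ψ := by
  have h1 : (adj (pr Z j) φ - adj (pr Z j) ψ) ≫ leg (cT c E) j = 0 := by
    have h2 := congrArg (adj c.pt.hom) h
    rw [adj_pull, adj_pull] at h2
    rw [Preadditive.sub_comp]
    exact sub_eq_zero.mpr h2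
  obtain ⟨k, f, hf⟩ := exists_hom_zero (c := cT c E) G hG
    (fun V hV => HomLimQ.injAt_qcoh hc hE hV) j _ h1
  refine ⟨k, f, adj_injective _ ?_⟩
  rw [adj_pull, adj_pull]
  have h3 : (adj (pr Z j) φ - adj (pr Z j) ψ) ≫ ppMap E (tt Z f) _ _ (tt_pr Z f) = 0 := hf
  rw [Preadditive.sub_comp] at h3
  exact sub_eq_zero.mp h3

variable [QuasiSeparatedSpace Y]

include hc hG hE in
/-- Homs between pullbacks on the limit come from a stage. -/
theorem exists_pull_lift
    (φ : (Scheme.Modules.pullback c.pt.hom).obj G ⟶ (Scheme.Modules.pullback c.pt.hom).obj E) :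
    ∃ (j : J) (ψ : (Scheme.Modules.pullback (pr Z j)).obj G ⟶ (Scheme.Modules.pullback (pr Z j)).obj E),
      pullQ c j ψ = φ := by
  obtain ⟨j, ψ₀, h⟩ := exists_hom_lift (c := cT c E) G hG (fun V hV => HomLimQ.injAt_qcoh hc hE hV)
    (fun V hV => surjAt_T hc hE hV) (adj c.pt.hom φ)
  obtain ⟨ψ, rfl⟩ := adj_surjective (pr Z j) ψ₀
  refine ⟨j, ψ, adj_injective _ ?_⟩
  rw [adj_pull]
  exact h

end

variable {I : Type u} [SmallCategory I] [IsCofiltered I] {D : I ⥤ Scheme.{u}} {c : Cone D}
  [∀ {i j : I} (f : i ⟶ j), IsAffineHom (D.map f)] (hc : IsLimit c) {i : I}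
  {G E : (D.obj i).Modules} [CompactSpace (D.obj i)]

include hc in
/-- Homs between pullbacks which agree on the limit agree at a later stage. -/
theorem exists_eq (hG : CohB1.IsFP G) (hE : Coh.IsQCoh E) {j : I} (a : j ⟶ i)
    (φ ψ : (Scheme.Modules.pullback (D.map a)).obj G ⟶ (Scheme.Modules.pullback (D.map a)).obj E)
    (h : pull (c.π.app j) (D.map a) (c.π.app i) (c.w a) φ =
      pull (c.π.app j) (D.map a) (c.π.app i) (c.w a) ψ) :
    ∃ (k : I) (b : k ⟶ j), pull (D.map b) (D.map a) (D.map (b ≫ a)) (D.map_comp b a).symm φ =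
      pull (D.map b) (D.map a) (D.map (b ≫ a)) (D.map_comp b a).symm ψ := by
  obtain ⟨k, f, hk⟩ := exists_pull_eq (isLim hc i) hG hE (op (Over.mk a)) φ ψ h
  have e : k.unop.hom = f.unop.left ≫ a := (Over.w f.unop).symm
  have key : ∀ (a' : k.unop.left ⟶ i) (_ : k.unop.hom = a')
      (h1 : D.map f.unop.left ≫ D.map a = D.map a'),
      pull (D.map f.unop.left) (D.map a) (D.map a') h1 φ =
      pull (D.map f.unop.left) (D.map a) (D.map a') h1 ψ := by
    rintro _ rfl h1
    exact hk
  exact ⟨k.unop.left, f.unop.left, key _ e _⟩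

variable [QuasiSeparatedSpace (D.obj i)]

include hc in
/-- Homs between pullbacks to the limit come from a stage. -/
theorem exists_hom (hG : CohB1.IsFP G) (hE : Coh.IsQCoh E)
    (φ : (Scheme.Modules.pullback (c.π.app i)).obj G ⟶ (Scheme.Modules.pullback (c.π.app i)).obj E) :
    ∃ (j : I) (a : j ⟶ i)
      (ψ : (Scheme.Modules.pullback (D.map a)).obj G ⟶ (Scheme.Modules.pullback (D.map a)).obj E),
      pull (c.π.app j) (D.map a) (c.π.app i) (c.w a) ψ = φ := by
  obtain ⟨k, ψ, hk⟩ := exists_pull_lift (isLim hc i) hG hE φ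
  exact ⟨k.unop.left, k.unop.hom, ψ, hk⟩

end K117.HomStage
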