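import Groth.Agent.Smoothlim.ClosedStage
import Groth.Agent.Lim8.K115.Basic
import Mathlib.AlgebraicGeometry.Morphisms.Immersion

/-!
# Immersions into a limit of schemes are immersions into a stage

`exists_isImmersion`: `X ⟶ lim D` an immersion with `X` quasi-compact and `X ⟶ D i₀ ⟶ S` locally of finite type, then
`X ⟶ D k` is an immersion for some `k` over `i₀`.
-/

set_option autoImplicit false
universe u
open CategoryTheory CategoryTheory.Limits AlgebraicGeometry TopologicalSpace

namespace K117.ImmStage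

theorem exists_compact_between {X : Scheme.{u}} {K : Set X} (hK : IsCompact K) (U : X.Opens)
    (h : K ⊆ (U : Set X)) : ∃ V : X.Opens, IsCompact (V : Set X) ∧ K ⊆ (V : Set X) ∧ V ≤ U := by
  have key : ∀ x ∈ K, ∃ V : X.Opens, IsAffineOpen V ∧ x ∈ V ∧ V ≤ U := by
    intro x hx
    obtain ⟨V, hV, hxV, hVU⟩ := exists_isAffineOpen_mem_and_subset (X := X) (x := x) (U := U) (h hx)
    exact ⟨V, hV, hxV, hVU⟩
  choose! V hV hxV hVU using key
  obtain ⟨t, ht⟩ := hK.elim_nhds_subcover' (fun x _ ↦ (V x : Set X)) fun x hx ↦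
    (V x).2.mem_nhds (hxV x hx)
  refine ⟨⨆ x : t, V x.1.1, ?_, fun x hx ↦ ?_, iSup_le fun x ↦ hVU _ x.1.2⟩
  · rw [Opens.coe_iSup]
    exact isCompact_iUnion fun x ↦ (hV x.1.1 x.1.2).isCompact
  · obtain ⟨y, hy, hxy⟩ := Set.mem_iUnion₂.mp (ht hx)
    rw [Opens.coe_iSup]
    exact Set.mem_iUnion.mpr ⟨⟨y, hy⟩, hxy⟩

/-- An immersion whose image is contained in an open `V` contained in the coborder of its range is a closed immersion
into `V`. -/
theorem isClosedImmersion_lift {X Y : Scheme.{u}} (h : X ⟶ Y) [IsImmersion h] (V : Y.Opens)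
    (hV : V ≤ h.coborderRange) (g : X ⟶ V) (hg : g ≫ V.ι = h) : IsClosedImmersion g := by
  let j : V.toScheme ⟶ h.coborderRange := Y.homOfLE hV
  have hj : j ≫ h.coborderRange.ι = V.ι := Scheme.homOfLE_ι _ _
  have h1 : g ≫ j = h.liftCoborder := by
    rw [← cancel_mono h.coborderRange.ι, Category.assoc, hj, hg, h.liftCoborder_ι]
  have h2 : IsClosedImmersion (g ≫ j) := by rw [h1]; infer_instance
  exact IsClosedImmersion.of_comp g j

variable {I : Type u} [SmallCategory I] [IsCofiltered I]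
    (D : I ⥤ Scheme.{u}) (c : Cone D) (hc : IsLimit c)
    [∀ (i j : I) (f : i ⟶ j), IsAffineHom (D.map f)]

set_option backward.isDefEq.respectTransparency false in
include hc in
/-- An immersion of a quasi-compact `X` into a limit is an immersion into a stage, if `X` is locally of finite type over
`S`. -/
theorem exists_isImmersion {X S : Scheme.{u}} (h : X ⟶ c.pt) [IsImmersion h] [CompactSpace X] (i₀ : I)
    (p : D.obj i₀ ⟶ S) [LocallyOfFiniteType ((h ≫ c.π.app i₀) ≫ p)] :
    ∃ (k : I) (_ : k ⟶ i₀), IsImmersion (h ≫ c.π.app k) := by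
  have hsub : Set.range h ⊆ (h.coborderRange : Set c.pt) := subset_coborder
  obtain ⟨V, hVc, hhV, hV⟩ := exists_compact_between (isCompact_range h.continuous) h.coborderRange hsub
  obtain ⟨i, a, W, hWc, rfl⟩ := K115.Basic.exists_preimage_eq_over D c hc i₀ V hVc
  let g : X ⟶ (c.π.app i ⁻¹ᵁ W).toScheme :=
    IsOpenImmersion.lift (c.π.app i ⁻¹ᵁ W).ι h (by simpa using hhV)
  have hg : g ≫ (c.π.app i ⁻¹ᵁ W).ι = h := IsOpenImmersion.lift_fac _ _ _
  have hgc : IsClosedImmersion g := isClosedImmersion_lift h _ hV g hg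
  have hcomp : CompactSpace ((opensDiagram D i W).obj (Over.mk (𝟙 i))) :=
    isCompact_iff_compactSpace.mp
      (QuasiCompact.isCompact_preimage (f := (D.map (Over.mk (𝟙 i)).hom)) _ W.2 hWc)
  have hcomm : ∀ k : Over i, h ≫ c.π.app k.left =
      (g ≫ (opensCone D c i W).π.app k) ≫ (opensDiagramι D i W).app k := by
    intro k
    rw [← hg]
    simp [opensCone, opensDiagramι]
  have hlft : LocallyOfFiniteType ((g ≫ (opensCone D c i W).π.app (Over.mk (𝟙 i))) ≫
      ((opensDiagramι D i W).app (Over.mk (𝟙 i)) ≫ D.map a ≫ p)) := by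
    have e : (g ≫ (opensCone D c i W).π.app (Over.mk (𝟙 i))) ≫
        ((opensDiagramι D i W).app (Over.mk (𝟙 i)) ≫ D.map a ≫ p) = (h ≫ c.π.app i₀) ≫ p := by
      rw [← c.w a]
      have := hcomm (Over.mk (𝟙 i))
      rw [← Category.assoc, ← this]
      simp
    rw [e]
    infer_instance
  obtain ⟨k, b, hk⟩ := Groth.Agent.Smoothlim.ClosedStage.exists_isClosedImmersion (opensDiagram D i W)
    (opensCone D c i W) (isLimitOpensCone D c hc i W) g (Over.mk (𝟙 i))
    ((opensDiagramι D i W).app (Over.mk (𝟙 i)) ≫ D.map a ≫ p)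
  refine ⟨k.left, k.hom ≫ a, ?_⟩
  rw [hcomm k]
  have : IsOpenImmersion ((opensDiagramι D i W).app k) := inferInstance
  infer_instance

end K117.ImmStage
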