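import Groth.Agent.Lim8.K117.QCAlgUnion
import Groth.Agent.Lim8.K117.ImmStage

/-!
# Immersions into a relative spectrum are immersions into the spectrum of a subalgebra of finite type
-/

set_option autoImplicit false
universe u
open CategoryTheory CategoryTheory.Limits AlgebraicGeometry Opposite

namespace K117.ImmAlg

open K117.QCAlgUnion

set_option backward.isDefEq.respectTransparency false in
theorem exists_isImmersion {X Y : Scheme.{u}} [CompactSpace Y] [QuasiSeparatedSpace Y]
    (f : X ⟶ Y) [LocallyOfFiniteType f] [QuasiCompact f]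
    (C : RelSpec.QCAlg Y) (g : X ⟶ C.spec) (hg : g ≫ C.π = f) [IsImmersion g] :
    ∃ E : Groth.Agent.Ega1.SubUnion.GoodSub C.toModule, IsImmersion (g ≫ RelSpec.QCAlg.specMap (subι C E)) := by
  have : CompactSpace X := QuasiCompact.compactSpace_of_compactSpace f
  have : C.toModule.IsQuasicoherent := K27.QCAlgBasic.isQCoh_toModule C
  obtain ⟨E₀⟩ : Nonempty (Groth.Agent.Ega1.SubUnion.GoodSub C.toModule) := inferInstance
  have hlim := isLimitSpecFun (isColimitCocone C)
  have hlft : LocallyOfFiniteType ((g ≫ ((specFun Y).mapCone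
      (cocone C).op).π.app (op E₀)) ≫ ((diag C).obj E₀).π) := by
    have e : (g ≫ ((specFun Y).mapCone (cocone C).op).π.app (op E₀)) ≫ ((diag C).obj E₀).π = f :=
      (Category.assoc g (RelSpec.QCAlg.specMap (subι C E₀)) ((diag C).obj E₀).π).trans
        ((congrArg (g ≫ ·) (RelSpec.QCAlg.specMap_π (subι C E₀))).trans hg)
    rw [e]
    infer_instance
  have hgi' : @IsImmersion X ((specFun Y).mapCone (cocone C).op).pt g := ‹_›
  obtain ⟨k, a, hk⟩ := @K117.ImmStage.exists_isImmersion _ _ _ ((diag C).op ⋙ specFun Y) _ hlim _ X Y g hgi' _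
    (op E₀) ((diag C).obj E₀).π hlft
  exact ⟨k.unop, hk⟩

end K117.ImmAlg
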