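import Groth.Agent.Models2.ModuleFP

/-!
# Injectivity of `colim Hom(M, N_j) ⟶ Hom(M, colim N_j)` for finite modules, surjectivity for f.p. modules
-/

set_option autoImplicit false
universe u
open CategoryTheory Limits Opposite

namespace K117.ModColim

open Groth.Agent.Models2.ModuleFP

variable {A : Type u} [CommRing A] {J : Type u} [SmallCategory J] [IsFiltered J]
  (N : J ⥤ ModuleCat.{u} A) (M : ModuleCat.{u} A)

theorem post_ι (j : J) (x : M ⟶ N.obj j) :
    colimit.post N (coyoneda.obj (op M)) (colimit.ι (N ⋙ coyoneda.obj (op M)) j x) =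
      x ≫ colimit.ι N j :=
  ConcreteCategory.congr_hom (colimit.ι_post N (coyoneda.obj (op M)) j) x

theorem injective_post [Module.Finite A M] :
    Function.Injective (colimit.post N (coyoneda.obj (op M))) := by
  intro a b hab
  obtain ⟨j, x, rfl⟩ := Types.jointly_surjective' a
  obtain ⟨k, y, rfl⟩ := Types.jointly_surjective' b
  let f := IsFiltered.leftToMax j k
  let g := IsFiltered.rightToMax j k
  have hx : colimit.ι (N ⋙ coyoneda.obj (op M)) j x =
      colimit.ι (N ⋙ coyoneda.obj (op M)) (IsFiltered.max j k) (x ≫ N.map f) :=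
    (ConcreteCategory.congr_hom (colimit.w (N ⋙ coyoneda.obj (op M)) f) x).symm
  have hy : colimit.ι (N ⋙ coyoneda.obj (op M)) k y =
      colimit.ι (N ⋙ coyoneda.obj (op M)) (IsFiltered.max j k) (y ≫ N.map g) :=
    (ConcreteCategory.congr_hom (colimit.w (N ⋙ coyoneda.obj (op M)) g) y).symm
  rw [hx, hy] at hab ⊢
  rw [post_ι, post_ι] at hab
  obtain ⟨l, u, hu⟩ := exists_hom_eq (colimit.isColimit N) M (x ≫ N.map f) (y ≫ N.map g) hab
  have h1 (z : M ⟶ N.obj (IsFiltered.max j k)) :
      colimit.ι (N ⋙ coyoneda.obj (op M)) (IsFiltered.max j k) z =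
      colimit.ι (N ⋙ coyoneda.obj (op M)) l (z ≫ N.map u) :=
    (ConcreteCategory.congr_hom (colimit.w (N ⋙ coyoneda.obj (op M)) u) z).symm
  rw [h1, h1, hu]

theorem surjective_post [Module.FinitePresentation A M] :
    Function.Surjective (colimit.post N (coyoneda.obj (op M))) := by
  intro g
  obtain ⟨j, h, hh⟩ := exists_hom (colimit.isColimit N) M g
  exact ⟨colimit.ι (N ⋙ coyoneda.obj (op M)) j h, (post_ι N M j h).trans hh⟩

end K117.ModColim
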