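import Groth.Agent.Ega4late.H542.NormalSection
import Mathlib.AlgebraicGeometry.ZariskisMainTheorem
import Mathlib.AlgebraicGeometry.SpreadingOut
import Mathlib.AlgebraicGeometry.FunctionField

/-!
# A separated birational morphism is an isomorphism near a normal point with an isolated point in the fibre
-/

set_option autoImplicit false
universe u
open CategoryTheory CategoryTheory.Limits AlgebraicGeometry TopologicalSpace

namespace K117.NormalIso

theorem exists_isIso {X Y : Scheme.{u}} [IsIntegral X] [IsIntegral Y] (f : X ⟶ Y) [IsSeparated f]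
    [LocallyOfFiniteType f] (hgen : f (genericPoint X) = genericPoint Y)
    (hbir : IsIso (f.stalkMap (genericPoint X))) (y : Y) (hy : IsIntegrallyClosed (Y.presheaf.stalk y))
    (x : X) (hxy : f x = y) (hq : f.QuasiFiniteAt x) :
    ∃ U : Y.Opens, y ∈ U ∧ IsIso (f ∣_ U) := by
  let g : Spec (CommRingCat.of Y.functionField) ⟶ X :=
    Spec.map (Y.presheaf.stalkSpecializes (Inseparable.of_eq hgen.symm).specializes) ≫
      inv (Spec.map (f.stalkMap (genericPoint X))) ≫ X.fromSpecStalk (genericPoint X)
  have hg : g ≫ f = Spec.map (CommRingCat.ofHom (algebraMap (Y.presheaf.stalk y) Y.functionField)) ≫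
      Y.fromSpecStalk y := by
    have h1 : X.fromSpecStalk (genericPoint X) ≫ f =
        Spec.map (f.stalkMap (genericPoint X)) ≫ Y.fromSpecStalk (f (genericPoint X)) :=
      (Scheme.SpecMap_stalkMap_fromSpecStalk f).symm
    dsimp only [g]
    rw [Category.assoc, Category.assoc, h1, IsIso.inv_hom_id_assoc,
      Scheme.SpecMap_stalkSpecializes_fromSpecStalk]
    exact (Scheme.SpecMap_stalkSpecializes_fromSpecStalk
      ((genericPoint_spec Y).specializes (Set.mem_univ y))).symm
  have hgt : ∀ t, g t = genericPoint X := by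
    intro t
    have h1 : g t ∈ Set.range (X.fromSpecStalk (genericPoint X)) :=
      ⟨(Spec.map (Y.presheaf.stalkSpecializes (Inseparable.of_eq hgen.symm).specializes) ≫
        inv (Spec.map (f.stalkMap (genericPoint X)))) t, by
          rw [← Scheme.Hom.comp_apply, Category.assoc]⟩
    rw [Scheme.range_fromSpecStalk] at h1
    exact h1.antisymm ((genericPoint_spec X).specializes trivial) |>.eq
  obtain ⟨φ, hφ, hφg, -⟩ := Groth.Agent.Ega4late.H542.NormalSection.exists_section_stalk f y
    Y.functionField g hg x hxy hq (fun t ↦ by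
      rw [hgt]
      exact (genericPoint_spec X).specializes trivial)
  obtain ⟨T, hyT, s, hs, hsf⟩ := spread_out_of_isGermInjective' (𝟙 Y) f φ (by rw [hφ, Category.comp_id])
  rw [Category.comp_id] at hsf
  refine ⟨T, hyT, ?_⟩
  -- `s` is a section of `f` over `T`
  let s' : T.toScheme ⟶ (f ⁻¹ᵁ T : X.Opens) := IsOpenImmersion.lift (f ⁻¹ᵁ T).ι s (by
    rintro _ ⟨t, rfl⟩
    have : f (s t) = t.1 := by
      rw [← Scheme.Hom.comp_apply, hsf]; rfl
    rw [Scheme.Opens.range_ι]
    change f (s t) ∈ T
    rw [this]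
    exact t.2)
  have hs'ι : s' ≫ (f ⁻¹ᵁ T).ι = s := IsOpenImmersion.lift_fac _ _ _
  have hs'f : s' ≫ (f ∣_ T) = 𝟙 _ := by
    rw [← cancel_mono T.ι, Category.assoc, morphismRestrict_ι, reassoc_of% hs'ι, hsf, Category.id_comp]
  have : IsClosedImmersion (s' ≫ (f ∣_ T)) := by rw [hs'f]; infer_instance
  have : IsClosedImmersion s' := IsClosedImmersion.of_comp s' (f ∣_ T)
  have : Nonempty T := ⟨⟨_, hyT⟩⟩
  have : Nonempty (f ⁻¹ᵁ T : X.Opens) := ⟨⟨x, by simpa [hxy] using hyT⟩⟩
  have : Surjective s' := by
    constructor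
    rw [← Set.range_eq_univ, ← Set.univ_subset_iff]
    have hcl : IsClosed (Set.range s') := s'.isClosedEmbedding.isClosed_range
    have hgen' : genericPoint (f ⁻¹ᵁ T : X.Opens).toScheme ∈ Set.range s' := by
      let t : Spec (CommRingCat.of Y.functionField) := IsLocalRing.closedPoint _
      have h1 : s (T.fromSpecStalkOfMem y hyT (Spec.map (CommRingCat.ofHom
          (algebraMap (Y.presheaf.stalk y) Y.functionField)) t)) = genericPoint X := by
        rw [← hgt t, ← hφg, hs]
        simp only [Scheme.Hom.comp_apply]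
      refine ⟨T.fromSpecStalkOfMem y hyT (Spec.map (CommRingCat.ofHom
          (algebraMap (Y.presheaf.stalk y) Y.functionField)) t), ?_⟩
      apply (f ⁻¹ᵁ T).ι.injective
      rw [← Scheme.Hom.comp_apply, hs'ι, genericPoint_eq_of_isOpenImmersion (f ⁻¹ᵁ T).ι, h1]
    rw [← (genericPoint_spec (f ⁻¹ᵁ T : X.Opens).toScheme).def]
    exact hcl.closure_subset_iff.mpr (by simpa using hgen')
  have : IsIso s' := isIso_of_isClosedImmersion_of_surjective s'
  have : IsIso (s' ≫ (f ∣_ T)) := by rw [hs'f]; infer_instance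
  exact IsIso.of_isIso_comp_left s' (f ∣_ T)

end K117.NormalIso
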