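import Groth.Agent.Lim8.K117.Model
import Groth.Agent.Lim8.K116.OverIso
import Groth.Agent.Lim8.K116.NormImm
import Groth.Agent.Ega43.LimCompare
import Groth.Agent.Ega43.LimitDescendCompare
import Groth.Agent.Ega43.LimitDescendImm
import Groth.Agent.PicF.K248.StalkLim

/-!
# Pseudo-finite morphisms: the pointwise criterion

* `exists_stage_factor`: a factorization "immersion followed by a finite morphism" over the limit comes from a stage.
* `exists_nhd_factor`: such a factorization over `Spec O_{Y,y}` extends to a neighbourhood (`Y` locally noetherian).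
* `isImmersion_toNormalization_of_cover`: `f.toNormalization` is an immersion if it is so locally on the target.
-/

set_option autoImplicit false
universe u
open CategoryTheory CategoryTheory.Limits AlgebraicGeometry TopologicalSpace

namespace K117.PseudoFin

open Groth.Agent.Ega43.LimitDescend Groth.Agent.Ega43.LimitDescendCompare Groth.Agent.Ega43.LimitDescendImm

theorem descendsLim_isFinite : DescendsLim @IsFinite.{u} :=
  have := MorphismProperty.IsStableUnderBaseChange.respectsIso (P := @IsFinite.{u})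
  descendsLim_of_descends @Groth.Agent.Ega43.LimCompare.descends_isFinite

set_option backward.isDefEq.respectTransparency.types false in
theorem isLocal_isFinite : IsZariskiLocalAtTarget (@IsFinite : MorphismProperty Scheme.{u}) :=
  inferInstance

section Stage

variable {I : Type u} [SmallCategory I] [IsCofiltered I]
    (D : I ⥤ Scheme.{u}) (c : Limits.Cone D) (hc : Limits.IsLimit c)
    [∀ (i j : I) (f : i ⟶ j), IsAffineHom (D.map f)] (i₀ : I)
    [CompactSpace (D.obj i₀)] [QuasiSeparatedSpace (D.obj i₀)]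

include hc in
theorem exists_stage_factor {X₀ X Z : Scheme.{u}} (f₀ : X₀ ⟶ D.obj i₀) [LocallyOfFinitePresentation f₀]
    [QuasiCompact f₀] [QuasiSeparated f₀] (q : X ⟶ X₀) (f : X ⟶ c.pt) (hX : IsPullback q f f₀ (c.π.app i₀))
    (g : X ⟶ Z) (u : Z ⟶ c.pt) [IsImmersion g] [IsFinite u] [LocallyOfFinitePresentation u] (hgu : g ≫ u = f) :
    ∃ (j : I) (φ : j ⟶ i₀) (Z' : Scheme.{u}) (g' : pullback f₀ (D.map φ) ⟶ Z') (u' : Z' ⟶ D.obj j),
      IsImmersion g' ∧ IsFinite u' ∧ g' ≫ u' = pullback.snd f₀ (D.map φ) := by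
  have := isLocal_isFinite.{u}
  obtain ⟨i, a, Zi, ui, qZ, h1, h2, h3, h4, hZ⟩ := K117.Model.exists_model_prop D c hc i₀
    descendsLim_isFinite u ‹_›
  have : CompactSpace (D.obj i) := QuasiCompact.compactSpace_of_compactSpace (D.map a)
  have : QuasiSeparatedSpace (D.obj i) := quasiSeparatedSpace_of_quasiSeparated (D.map a)
  have hXi := K117.Model.isPullback_later D c a hX
  let a₀ : pullback f₀ (D.map a) ⟶ D.obj i := pullback.snd f₀ (D.map a)
  let qX := pullback.lift q (f ≫ c.π.app i) (show q ≫ f₀ = (f ≫ c.π.app i) ≫ D.map a by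
    rw [Category.assoc, c.w, hX.w])
  obtain ⟨j, φ, h, hh, hh'⟩ := K116.OverIso.exists_hom D c hc i a₀ ui f u qX qZ hXi hZ g hgu
  have k1 : IsPullback (pullback.fst a₀ (D.map φ)) (pullback.snd a₀ (D.map φ)) a₀ (D.map φ) :=
    IsPullback.of_hasPullback _ _
  have k2 : IsPullback (pullback.fst ui (D.map φ)) (pullback.snd ui (D.map φ)) ui (D.map φ) :=
    IsPullback.of_hasPullback _ _
  have wX : qX ≫ a₀ = (f ≫ c.π.app j) ≫ D.map φ := by rw [hXi.w, Category.assoc, c.w]
  have wY : qZ ≫ ui = (u ≫ c.π.app j) ≫ D.map φ := by rw [hZ.w, Category.assoc, c.w]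
  have h3' : IsPullback (pullback.lift qX (f ≫ c.π.app j) wX) f (pullback.snd a₀ (D.map φ)) (c.π.app j) :=
    IsPullback.of_right (by rw [pullback.lift_fst, c.w]; exact hXi) (pullback.lift_snd _ _ _) k1
  have h4' : IsPullback (pullback.lift qZ (u ≫ c.π.app j) wY) u (pullback.snd ui (D.map φ)) (c.π.app j) :=
    IsPullback.of_right (by rw [pullback.lift_fst, c.w]; exact hZ) (pullback.lift_snd _ _ _) k2
  have h5' : IsPullback (pullback.lift qX (f ≫ c.π.app j) wX) g h (pullback.lift qZ (u ≫ c.π.app j) wY) :=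
    IsPullback.of_bot (by rw [hgu, hh]; exact h3') hh' h4'
  have : CompactSpace (D.obj j) := QuasiCompact.compactSpace_of_compactSpace (D.map φ)
  have : QuasiSeparatedSpace (D.obj j) := quasiSeparatedSpace_of_quasiSeparated (D.map φ)
  have e1 : LocallyOfFinitePresentation (h ≫ pullback.snd ui (D.map φ)) := by rw [hh]; infer_instance
  have e2 : QuasiCompact (h ≫ pullback.snd ui (D.map φ)) := by rw [hh]; infer_instance
  have e3 : QuasiSeparated (h ≫ pullback.snd ui (D.map φ)) := by rw [hh]; infer_instance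
  obtain ⟨k, ψ, Xk, Yk, fk, gk, pY, pX, h6, h7, h8⟩ := exists_descend_of_descendsLim'
    descendsLim_isImmersion D c hc j h (pullback.snd ui (D.map φ)) g u _ _ h4' h5' ‹_›
  have h9 : IsPullback pX (fk ≫ gk) (pullback.snd a₀ (D.map φ)) (D.map ψ) := by
    have := h7.paste_vert h6
    rwa [hh] at this
  have h10 : IsPullback ((pX ≫ pullback.fst a₀ (D.map φ)) ≫ pullback.fst f₀ (D.map a)) (fk ≫ gk) f₀
      (D.map ((ψ ≫ φ) ≫ a)) := by
    rw [D.map_comp, D.map_comp]
    exact (h9.paste_horiz k1).paste_horiz (IsPullback.of_hasPullback f₀ (D.map a))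
  have h11 := IsPullback.of_hasPullback f₀ (D.map ((ψ ≫ φ) ≫ a))
  have hfin : IsFinite gk := MorphismProperty.of_isPullback h6 inferInstance
  refine ⟨k, (ψ ≫ φ) ≫ a, Yk, (h11.isoIsPullback _ _ h10).hom ≫ fk, gk, ?_, hfin, ?_⟩
  · have : IsImmersion fk := h8
    infer_instance
  · exact (Category.assoc _ _ _).trans (h11.isoIsPullback_hom_snd _ _ h10)

end Stage

set_option backward.isDefEq.respectTransparency false in
/-- A factorization over the local scheme at `y` extends to a neighbourhood of `y`. -/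
theorem exists_nhd_factor {X Y : Scheme.{u}} (f : X ⟶ Y) [IsLocallyNoetherian Y]
    [LocallyOfFiniteType f] [QuasiCompact f] (y : Y)
    (h : ∃ (Z : Scheme.{u}) (g : pullback f (Y.fromSpecStalk y) ⟶ Z) (u : Z ⟶ Spec (Y.presheaf.stalk y)),
        IsImmersion g ∧ IsFinite u ∧ g ≫ u = pullback.snd f (Y.fromSpecStalk y)) :
    ∃ V : Y.Opens, IsAffineOpen V ∧ y ∈ V ∧ ∃ (Z : Scheme.{u}) (g : pullback f V.ι ⟶ Z) (u : Z ⟶ V),
      IsImmersion g ∧ IsFinite u ∧ g ≫ u = pullback.snd f V.ι := by
  obtain ⟨Z, g, u, hg, hu, hgu⟩ := h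
  obtain ⟨V₀⟩ : Nonempty (K248.StalkLim.Nhd Y y) := inferInstance
  have : IsLocallyNoetherian X := LocallyOfFiniteType.isLocallyNoetherian f
  have hfp : LocallyOfFinitePresentation f := inferInstance
  have : QuasiSeparated f := inferInstance
  have : LocallyOfFinitePresentation u := inferInstance
  have : CompactSpace ((K248.StalkLim.D Y y).obj V₀) := inferInstance
  have : QuasiSeparatedSpace ((K248.StalkLim.D Y y).obj V₀) := inferInstance
  have ha : ∀ (i j : K248.StalkLim.Nhd Y y) (f : i ⟶ j), IsAffineHom ((K248.StalkLim.D Y y).map f) :=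
    fun i j f ↦ inferInstance
  let ι₀ : (K248.StalkLim.D Y y).obj V₀ ⟶ Y := Scheme.Opens.ι V₀.1
  have k1 : IsPullback (pullback.fst f ι₀) (pullback.snd f ι₀) f ι₀ := IsPullback.of_hasPullback _ _
  have k2 : IsPullback (pullback.fst f (Y.fromSpecStalk y)) (pullback.snd f (Y.fromSpecStalk y)) f
      ((K248.StalkLim.cone Y y).π.app V₀ ≫ ι₀) := by
    have e : (K248.StalkLim.cone Y y).π.app V₀ ≫ ι₀ = Y.fromSpecStalk y :=
      K248.StalkLim.leg_ι Y y V₀
    rw [e]
    exact IsPullback.of_hasPullback _ _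
  have h0 : LocallyOfFinitePresentation (pullback.snd f ι₀) := inferInstance
  obtain ⟨V, φ, Z', g', u', h1, h2, h3⟩ := exists_stage_factor (K248.StalkLim.D Y y) (K248.StalkLim.cone Y y)
    (K248.StalkLim.isLimit Y y) V₀ (pullback.snd f ι₀) _ _ (IsPullback.of_right' k2 k1) g u hgu
  have k3 : IsPullback (pullback.fst f (Scheme.Opens.ι V.1)) (pullback.snd f (Scheme.Opens.ι V.1)) f
      ((K248.StalkLim.D Y y).map φ ≫ ι₀) := by
    have e : (K248.StalkLim.D Y y).map φ ≫ ι₀ = (Scheme.Opens.ι V.1) := by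
      simp [K248.StalkLim.D, ι₀]
    rw [e]
    exact IsPullback.of_hasPullback _ _
  have k4 := IsPullback.of_right' k3 k1
  have k5 := IsPullback.of_hasPullback (pullback.snd f ι₀) ((K248.StalkLim.D Y y).map φ)
  refine ⟨V.1, V.2.1, V.2.2, Z', (k4.isoIsPullback _ _ k5).hom ≫ g', u', inferInstance, h2, ?_⟩
  refine (Category.assoc _ _ _).trans ?_
  refine (congrArg _ h3).trans ?_
  exact k4.isoIsPullback_hom_snd _ _ k5

/-- `f.toNormalization` is an immersion if it is so locally on the target. -/
theorem isImmersion_toNormalization_of_cover {X Y : Scheme.{u}} (f : X ⟶ Y) [QuasiCompact f] [QuasiSeparated f]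
    (h : ∀ y : Y, ∃ V : Y.Opens, y ∈ V ∧ IsImmersion (pullback.snd f V.ι).toNormalization) :
    IsImmersion f.toNormalization := by
  choose V hV hI using h
  let 𝒰 : Y.OpenCover := Y.openCoverOfIsOpenCover V (by
    rw [IsOpenCover, eq_top_iff]
    intro y _
    exact Opens.mem_iSup.mpr ⟨y, hV y⟩)
  refine (IsZariskiLocalAtTarget.iff_of_openCover (P := @IsImmersion) (𝒰.pullback₁ f.fromNormalization)).mpr ?_
  intro y
  change IsImmersion (pullback.snd f.toNormalization (pullback.fst f.fromNormalization (V y).ι))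
  have k1 := IsPullback.of_hasPullback f.fromNormalization (V y).ι
  have k2 : IsPullback (pullback.fst f (V y).ι) (pullback.snd f (V y).ι)
      (f.toNormalization ≫ f.fromNormalization) (V y).ι := by
    rw [f.toNormalization_fromNormalization]
    exact IsPullback.of_hasPullback _ _
  have k3 := IsPullback.of_bot' k2 k1
  have k4 := IsPullback.of_hasPullback f.toNormalization (pullback.fst f.fromNormalization (V y).ι)
  have e : k1.lift (pullback.fst f (V y).ι ≫ f.toNormalization) (pullback.snd f (V y).ι)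
      (by rw [Category.assoc, k2.w]) =
      (pullback.snd f (V y).ι).toNormalization ≫ f.normalizationPullback (V y).ι := by
    apply k1.hom_ext
    · rw [k1.lift_fst, Category.assoc, f.toNormalization_normalizationPullback_fst]
    · rw [k1.lift_snd, Category.assoc, f.normalizationPullback_snd,
        Scheme.Hom.toNormalization_fromNormalization]
  have hi := hI y
  have h1 : IsImmersion (k1.lift (pullback.fst f (V y).ι ≫ f.toNormalization) (pullback.snd f (V y).ι)
      (by rw [Category.assoc, k2.w])) := by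
    rw [e]
    infer_instance
  rw [← k4.isoIsPullback_hom_snd _ _ k3]
  infer_instance

theorem isSeparated_of_factor {X Y Z : Scheme.{u}} (f : X ⟶ Y) (g : X ⟶ Z) (v : Z ⟶ Y) [IsImmersion g] [IsFinite v]
    (h : g ≫ v = f) : IsSeparated f := by
  rw [← h]
  infer_instance

/-- The pointwise criterion for pseudo-finite morphisms. -/
theorem factor_iff {X Y : Scheme.{u}} (f : X ⟶ Y) [IsNoetherian Y] [LocallyOfFiniteType f] [QuasiCompact f] :
    (∃ (Y' : Scheme.{u}) (f' : X ⟶ Y') (v : Y' ⟶ Y), IsImmersion f' ∧ IsFinite v ∧ f' ≫ v = f) ↔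
      ∀ y : Y, ∃ (Z : Scheme.{u}) (g : pullback f (Y.fromSpecStalk y) ⟶ Z) (v : Z ⟶ Spec (Y.presheaf.stalk y)),
        IsImmersion g ∧ IsFinite v ∧ g ≫ v = pullback.snd f (Y.fromSpecStalk y) := by
  constructor
  · rintro ⟨Y', f', v, h1, h2, h3⟩ y
    have k1 := IsPullback.of_hasPullback v (Y.fromSpecStalk y)
    have k2 : IsPullback (pullback.fst f (Y.fromSpecStalk y)) (pullback.snd f (Y.fromSpecStalk y)) (f' ≫ v)
        (Y.fromSpecStalk y) := by
      rw [h3]
      exact IsPullback.of_hasPullback _ _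
    have k3 := IsPullback.of_bot' k2 k1
    exact ⟨_, _, pullback.snd v (Y.fromSpecStalk y), MorphismProperty.of_isPullback k3 h1, inferInstance,
      k1.lift_snd _ _ _⟩
  · intro h
    choose V hVa hyV Z g v h1 h2 h3 using fun y ↦ exists_nhd_factor f y (h y)
    have : IsLocallyNoetherian X := LocallyOfFiniteType.isLocallyNoetherian f
    have hs : ∀ y, IsSeparated (pullback.snd f (V y).ι) := fun y ↦ isSeparated_of_factor _ (g y) (v y) (h3 y)
    have hsep : IsSeparated f := by
      let 𝒰 : Y.OpenCover := Y.openCoverOfIsOpenCover V (by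
        rw [IsOpenCover, eq_top_iff]
        intro y _
        exact Opens.mem_iSup.mpr ⟨y, hyV y⟩)
      exact (IsZariskiLocalAtTarget.iff_of_openCover (P := @IsSeparated) 𝒰).mpr hs
    rw [K116.NormImm.exists_iff]
    refine isImmersion_toNormalization_of_cover f fun y ↦ ⟨V y, hyV y, ?_⟩
    have : IsAffine (V y) := hVa y
    rw [← K116.NormImm.exists_iff]
    exact ⟨Z y, g y, v y, h1 y, h2 y, h3 y⟩

end K117.PseudoFin
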