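import Groth.Agent.Ega2.H280.RelSpecAlg
import Groth.Agent.EGA2.K35.GammaIso
import Groth.Agent.Ega1.QCohAlg
import Mathlib.Algebra.Category.Ring.FilteredColimits

/-!
# Filtered colimits of quasi-coherent algebras are computed on affine opens

`isColimitSec`: if `c` is a colimit cocone of a filtered diagram `A` of quasi-coherent algebras then for every affine open
`U`, the ring `c.pt(U)` is the colimit of the `A_j(U)`.
-/

set_option autoImplicit false
universe u

open CategoryTheory CategoryTheory.Limits AlgebraicGeometry TopologicalSpace Opposite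
open AlgebraicGeometry.Scheme.AffineZariskiSite

noncomputable section

namespace K117.QCAlgColim

open Groth.Agent.Ega2.H280.RelSpecAlg
open Groth.Agent.CohqB (RelSpec.obj RelSpec.toBase RelSpec.ι)
open Groth.Agent.Ega1.QCohAlg (IsAwayHom isAwayHom_iff)

section Ring

variable {J : Type u} [SmallCategory J] [IsFiltered J] {K : J ⥤ CommRingCat.{u}} {c : Cocone K}

theorem exists_rep (hc : IsColimit c) (x : c.pt) : ∃ (j : J) (y : K.obj j), c.ι.app j y = x :=
  Types.jointly_surjective_of_isColimit (isColimitOfPreserves (forget CommRingCat.{u}) hc) x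

theorem exists_eq_zero (hc : IsColimit c) {j : J} (x : K.obj j) (h : c.ι.app j x = 0) :
    ∃ (k : J) (f : j ⟶ k), K.map f x = 0 := by
  obtain ⟨k, f, hf⟩ := (Types.FilteredColimit.isColimit_eq_iff'
    (ht := isColimitOfPreserves (forget CommRingCat.{u}) hc) x (0 : K.obj j)).1
      (h.trans (map_zero (c.ι.app j).hom).symm)
  exact ⟨k, f, hf.trans (map_zero (K.map f).hom)⟩

end Ring

variable {S : Scheme.{u}}

/-- Restriction of quasi-coherent algebras to the affine opens. -/
abbrev aff : RelSpec.QCAlg S ⥤ (S.AffineZariskiSiteᵒᵖ ⥤ CommRingCat.{u}) where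
  obj A := (toOpensFunctor S).op ⋙ A.presheaf
  map φ := Functor.whiskerLeft _ φ.hom

variable {J : Type u} [SmallCategory J] (A : J ⥤ RelSpec.QCAlg S)

/-- The colimit on the affine opens. -/
abbrev colF : S.AffineZariskiSiteᵒᵖ ⥤ CommRingCat.{u} := colimit (A ⋙ aff)

/-- The colimit of the `A_j(U)`. -/
def isColimitEval (U : S.AffineZariskiSiteᵒᵖ) :
    IsColimit (((evaluation _ _).obj U).mapCocone (colimit.cocone (A ⋙ aff))) :=
  isColimitOfPreserves _ (colimit.isColimit _)

/-- The structure map through the `j`-th stage. -/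
def colα (j : J) : (toOpensFunctor S).op ⋙ S.presheaf ⟶ colF A :=
  Functor.whiskerLeft (toOpensFunctor S).op (A.obj j).str ≫ colimit.ι (A ⋙ aff) j

theorem colα_eq {j k : J} (f : j ⟶ k) : colα A j = colα A k := by
  have h : Functor.whiskerLeft (toOpensFunctor S).op (A.obj j).str ≫ (A ⋙ aff).map f =
      Functor.whiskerLeft (toOpensFunctor S).op (A.obj k).str := by
    rw [← (A.map f).comm]
    rfl
  rw [colα, colα, ← h]
  exact (congrArg (fun z ↦ Functor.whiskerLeft (toOpensFunctor S).op (A.obj j).str ≫ z)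
    (colimit.w (A ⋙ aff) f).symm).trans (Category.assoc _ _ _).symm

/-- The map from the `j`-th stage on sections. -/
def inj (j : J) (U : S.AffineZariskiSite) : (A.obj j).presheaf.obj (op U.toOpens) ⟶ (colF A).obj (op U) :=
  (colimit.ι (A ⋙ aff) j).app (op U)

theorem inj_map {j k : J} (f : j ⟶ k) (U : S.AffineZariskiSite)
    (y : (A.obj j).presheaf.obj (op U.toOpens)) :
    inj A k U ((A.map f).hom.app (op U.toOpens) y) = inj A j U y :=
  ConcreteCategory.congr_hom (NatTrans.congr_app (colimit.w (A ⋙ aff) f) (op U)) y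

theorem inj_res (j : J) {U V : S.AffineZariskiSite} (i : V ⟶ U)
    (y : (A.obj j).presheaf.obj (op U.toOpens)) :
    (colF A).map i.op (inj A j U y) =
      inj A j V ((A.obj j).presheaf.map (homOfLE (toOpens_mono i.le)).op y) :=
  (ConcreteCategory.congr_hom ((colimit.ι (A ⋙ aff) j).naturality i.op) y).symm

theorem colα_app (j : J) (U : S.AffineZariskiSite) (r : Γ(S, U.toOpens)) :
    (colα A j).app (op U) r = inj A j U ((A.obj j).str.app (op U.toOpens) r) := rfl

variable [IsFiltered J]

theorem colα_eq' (j k : J) : colα A j = colα A k :=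
  (colα_eq A (IsFiltered.leftToMax j k)).trans (colα_eq A (IsFiltered.rightToMax j k)).symm

theorem exists_inj {U : S.AffineZariskiSite} (x : (colF A).obj (op U)) :
    ∃ (j : J) (y : (A.obj j).presheaf.obj (op U.toOpens)), inj A j U y = x :=
  exists_rep (isColimitEval A (op U)) x

theorem exists_inj_eq_zero {U : S.AffineZariskiSite} {j : J}
    (x : (A.obj j).presheaf.obj (op U.toOpens)) (h : inj A j U x = 0) :
    ∃ (k : J) (f : j ⟶ k), (A.map f).hom.app (op U.toOpens) x = 0 :=
  exists_eq_zero (isColimitEval A (op U)) x h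

theorem coequifibered (j₀ : J) : (colα A j₀).Coequifibered := by
  rw [coequifibered_iff_forall_isLocalizationAway]
  intro U r
  change IsAwayHom ((colF A).map (homOfLE (U.basicOpen_le r)).op).hom ((colα A j₀).app (op U) r)
  rw [isAwayHom_iff]
  -- the maps at a stage
  have hA (j : J) : IsAwayHom ((A.obj j).presheaf.map (homOfLE (S.basicOpen_le r)).op).hom
    ((A.obj j).str.app (op U.toOpens) r) := (A.obj j).isQC U.1 U.2 r
  have hρ (j : J) (y : (A.obj j).presheaf.obj (op U.toOpens)) :
      ((colF A).map (homOfLE (U.basicOpen_le r)).op).hom (inj A j U y) =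
        inj A j (U.basicOpen r) (((A.obj j).presheaf.map (homOfLE (S.basicOpen_le r)).op).hom y) :=
    inj_res A j (homOfLE (U.basicOpen_le r)) y
  have hα (j : J) : (colα A j₀).app (op U) r = inj A j U ((A.obj j).str.app (op U.toOpens) r) := by
    rw [colα_eq' A j₀ j]
    rfl
  refine ⟨?_, fun s ↦ ?_, fun t ht ↦ ?_⟩
  · rw [hα j₀, hρ]
    exact (((isAwayHom_iff _ _).mp (hA j₀)).1).map (inj A j₀ (U.basicOpen r)).hom
  · obtain ⟨j, s, rfl⟩ := exists_inj A s
    obtain ⟨n, t, ht⟩ := ((isAwayHom_iff _ _).mp (hA j)).2.1 s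
    refine ⟨n, inj A j U t, ?_⟩
    rw [hα j, hρ, hρ, ht]
    exact (map_mul (inj A j (U.basicOpen r)).hom _ _).trans
      (congrArg (· * _) (map_pow (inj A j (U.basicOpen r)).hom _ _))
  · obtain ⟨j, t, rfl⟩ := exists_inj A t
    rw [hρ] at ht
    obtain ⟨k, f, hf⟩ := exists_inj_eq_zero A _ ht
    have h1 : ((A.obj k).presheaf.map (homOfLE (S.basicOpen_le r)).op).hom
        ((A.map f).hom.app (op U.toOpens) t) = 0 := by
      refine Eq.trans ?_ hf
      exact (ConcreteCategory.congr_hom ((A.map f).hom.naturality (homOfLE (S.basicOpen_le r)).op) t).symm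
    obtain ⟨n, hn⟩ := ((isAwayHom_iff _ _).mp (hA k)).2.2 _ h1
    refine ⟨n, ?_⟩
    rw [hα k, ← inj_map A f, ← map_pow, ← map_mul, hn, map_zero]

section BB

set_option backward.isDefEq.respectTransparency false

/-- An affine open as an object of the affine Zariski site. -/
abbrev aU {U : S.Opens} (hU : IsAffineOpen U) : S.AffineZariskiSite := ⟨U, hU⟩

variable (j₀ : J)

/-- The quasi-coherent algebra with sections `colim A_j(U)` over the affine opens. -/
def BB : RelSpec.QCAlg S :=
  RelSpec.QCAlg.directImage (Groth.Agent.CohqB.RelSpec.toBase (coequifibered A j₀))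

/-- Its sections over an affine open. -/
def sec {U : S.Opens} (hU : IsAffineOpen U) :
    (BB A j₀).presheaf.obj (op U) ⟶ (colF A).obj (op (aU hU)) :=
  secHom (coequifibered A j₀) (aU hU)

instance {U : S.Opens} (hU : IsAffineOpen U) : IsIso (sec A j₀ hU) :=
  isIso_secHom (coequifibered A j₀) (aU hU)

theorem str_sec (j : J) {U : S.Opens} (hU : IsAffineOpen U) :
    (BB A j₀).str.app (op U) ≫ sec A j₀ hU = (A.obj j).str.app (op U) ≫ inj A j (aU hU) := by
  refine (app_secHom (coequifibered A j₀) (aU hU)).trans ?_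
  change (colα A j₀).app (op (aU hU)) = _
  rw [colα_eq' A j₀ j]
  rfl

theorem res_sec {U : S.Opens} (hU : IsAffineOpen U) (r : Γ(S, U)) :
    (BB A j₀).presheaf.map (homOfLE (S.basicOpen_le r)).op ≫ sec A j₀ (hU.basicOpen r) =
      sec A j₀ hU ≫ (colF A).map (homOfLE ((aU hU).basicOpen_le r)).op :=
  secHom_naturality (coequifibered A j₀) (homOfLE ((aU hU).basicOpen_le r))

/-- The cocone maps to `BB`. -/
def leg (j : J) : A.obj j ⟶ BB A j₀ :=
  K35.GammaIso.homOfAffine (fun U hU ↦ inj A j (aU hU) ≫ inv (sec A j₀ hU))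
    (fun U hU r ↦ by
      have h2 : inv (sec A j₀ hU) ≫ (BB A j₀).presheaf.map (homOfLE (S.basicOpen_le r)).op =
          (colF A).map (homOfLE ((aU hU).basicOpen_le r)).op ≫ inv (sec A j₀ (hU.basicOpen r)) := by
        rw [IsIso.inv_comp_eq]
        exact (IsIso.eq_comp_inv (sec A j₀ (hU.basicOpen r))).mpr (res_sec A j₀ hU r) |>.trans
          (Category.assoc _ _ _)
      have h3 : (A.obj j).presheaf.map (homOfLE (S.basicOpen_le r)).op ≫ inj A j (aU (hU.basicOpen r)) =
          inj A j (aU hU) ≫ (colF A).map (homOfLE ((aU hU).basicOpen_le r)).op :=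
        (colimit.ι (A ⋙ aff) j).naturality (homOfLE ((aU hU).basicOpen_le r)).op
      rw [Category.assoc, h2]
      exact (Category.assoc _ _ _).symm.trans ((congrArg (· ≫ inv (sec A j₀ (hU.basicOpen r))) h3).trans
        (Category.assoc _ _ _)))
    (fun U hU ↦ by
      rw [← Category.assoc, IsIso.comp_inv_eq]
      exact (str_sec A j₀ j hU).symm)

theorem leg_app (j : J) {U : S.Opens} (hU : IsAffineOpen U) :
    (leg A j₀ j).hom.app (op U) = inj A j (aU hU) ≫ inv (sec A j₀ hU) :=
  K35.GammaIso.homOfAffine_app _ _ _ U hU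

theorem leg_w {j k : J} (f : j ⟶ k) : A.map f ≫ leg A j₀ k = leg A j₀ j := by
  apply K35.GammaIso.qcAlg_hom_ext
  intro U hU
  rw [RelSpec.QCAlg.comp_hom, NatTrans.comp_app, leg_app A j₀ k hU, leg_app A j₀ j hU, ← Category.assoc]
  congr 1
  exact NatTrans.congr_app (colimit.w (A ⋙ aff) f) (op (aU hU))

/-- The cocone with point `BB`. -/
def coconeBB : Cocone A where
  pt := BB A j₀
  ι := { app := leg A j₀, naturality := fun _ _ f ↦ (leg_w A j₀ f).trans (Category.comp_id _).symm }

variable {A} (c : Cocone A)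

/-- The comparison map on affine opens. -/
def desc (U : S.AffineZariskiSite) : (colF A).obj (op U) ⟶ c.pt.presheaf.obj (op U.toOpens) :=
  (colimit.desc (A ⋙ aff) (aff.mapCocone c)).app (op U)

@[reassoc]
theorem inj_desc (j : J) (U : S.AffineZariskiSite) :
    inj A j U ≫ desc c U = (c.ι.app j).hom.app (op U.toOpens) :=
  NatTrans.congr_app (colimit.ι_desc (aff.mapCocone c) j) (op U)

theorem desc_res {U V : S.AffineZariskiSite} (i : V ⟶ U) :
    (colF A).map i.op ≫ desc c V = desc c U ≫ c.pt.presheaf.map (homOfLE (toOpens_mono i.le)).op :=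
  (colimit.desc (A ⋙ aff) (aff.mapCocone c)).naturality i.op

/-- The comparison map from `BB`. -/
def kap : BB A j₀ ⟶ c.pt :=
  K35.GammaIso.homOfAffine (fun U hU ↦ sec A j₀ hU ≫ desc c (aU hU))
    (fun U hU r ↦ by
      rw [← Category.assoc, res_sec, Category.assoc, Category.assoc]
      congr 1
      exact desc_res c (homOfLE ((aU hU).basicOpen_le r)))
    (fun U hU ↦ by
      rw [← Category.assoc, str_sec A j₀ j₀ hU, Category.assoc, inj_desc]
      exact NatTrans.congr_app (c.ι.app j₀).comm (op U))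

theorem kap_app {U : S.Opens} (hU : IsAffineOpen U) :
    (kap j₀ c).hom.app (op U) = sec A j₀ hU ≫ desc c (aU hU) :=
  K35.GammaIso.homOfAffine_app _ _ _ U hU

theorem leg_kap (j : J) : leg A j₀ j ≫ kap j₀ c = c.ι.app j := by
  apply K35.GammaIso.qcAlg_hom_ext
  intro U hU
  rw [RelSpec.QCAlg.comp_hom, NatTrans.comp_app, leg_app A j₀ j hU, kap_app j₀ c hU, Category.assoc,
    IsIso.inv_hom_id_assoc, inj_desc]

omit [IsFiltered J] in
theorem hom_ext_colF {U : S.AffineZariskiSite} {R : CommRingCat.{u}} {f g : (colF A).obj (op U) ⟶ R}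
    (h : ∀ j, inj A j U ≫ f = inj A j U ≫ g) : f = g :=
  (isColimitEval A (op U)).hom_ext h

variable {c}

theorem isIso_desc (hc : IsColimit c) {U : S.Opens} (hU : IsAffineOpen U) : IsIso (desc c (aU hU)) := by
  obtain ⟨j₀⟩ := IsFiltered.nonempty (C := J)
  let δ : c.pt ⟶ BB A j₀ := hc.desc (coconeBB A j₀)
  have hδ (j : J) : c.ι.app j ≫ δ = leg A j₀ j := hc.fac (coconeBB A j₀) j
  have h1 : δ ≫ kap j₀ c = 𝟙 _ := by
    apply hc.hom_ext
    intro j
    rw [← Category.assoc, hδ, leg_kap, Category.comp_id]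
  have h1' : δ.hom.app (op U) ≫ sec A j₀ hU ≫ desc c (aU hU) = 𝟙 _ := by
    rw [← kap_app j₀ c hU]
    have h3 := congrArg RelSpec.QCAlg.Hom.hom h1
    exact NatTrans.congr_app h3 (op U)
  have h2 : desc c (aU hU) ≫ δ.hom.app (op U) ≫ sec A j₀ hU = 𝟙 _ := by
    apply hom_ext_colF
    intro j
    rw [inj_desc_assoc, Category.comp_id]
    have h3 := NatTrans.congr_app (congrArg RelSpec.QCAlg.Hom.hom (hδ j)) (op U)
    rw [RelSpec.QCAlg.comp_hom, NatTrans.comp_app, leg_app A j₀ j hU] at h3
    rw [← Category.assoc, h3, Category.assoc, IsIso.inv_hom_id, Category.comp_id]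
  exact ⟨δ.hom.app (op U) ≫ sec A j₀ hU, h2, by rw [Category.assoc]; exact h1'⟩

end BB

/-- Sections over an affine open, as a functor. -/
abbrev secFun (U : S.Opens) : RelSpec.QCAlg S ⥤ CommRingCat.{u} where
  obj A := A.presheaf.obj (op U)
  map φ := φ.hom.app (op U)

/-- Filtered colimits of quasi-coherent algebras are computed on affine opens. -/
def isColimitSec {c : Cocone A} (hc : IsColimit c) {U : S.Opens} (hU : IsAffineOpen U) :
    IsColimit ((secFun U).mapCocone c) :=
  have h : (isColimitEval A (op (aU hU))).desc ((secFun U).mapCocone c) = desc c (aU hU) :=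
    (isColimitEval A (op (aU hU))).hom_ext fun j ↦
      ((isColimitEval A (op (aU hU))).fac ((secFun U).mapCocone c) j).trans
        (inj_desc c j (aU hU)).symm
  (isColimitEval A (op (aU hU))).ofPointIso (t := (secFun U).mapCocone c) (i := by
    rw [h]
    exact isIso_desc hc hU)

end K117.QCAlgColim

end
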