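import Groth.Agent.Lim8.K117.SpecLim
import Groth.Agent.QCohSup.K27.Adjoin

/-!
# A quasi-coherent algebra on a qcqs scheme is the filtered colimit of its subalgebras of finite type

* `isColimitOfSec`: a cocone of quasi-coherent algebras which is a colimit on sections over all affine opens is a
  colimit;
* `specFun : (QCAlg S)ᵒᵖ ⥤ Scheme`, `isLimitSpecFun`: relative spectra of filtered colimits are limits;
* `diag C`, `cocone C`, `isColimitCocone`: the filtered diagram of subalgebras generated by the quasi-coherent submodules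
  of finite type.
-/

set_option autoImplicit false
universe u

open CategoryTheory CategoryTheory.Limits AlgebraicGeometry TopologicalSpace Opposite

noncomputable section

namespace K117.QCAlgUnion

open K27.QCAlgBasic K27.SubAlg K27.Adjoin
open Groth.Agent.Ega1.SubSheaf Groth.Agent.Ega1.SubUnion Groth.Agent.Ega1.LocMod

variable {S : Scheme.{u}}

section Criterion

variable {J : Type u} [SmallCategory J] {A : J ⥤ RelSpec.QCAlg S} {c : Cocone A}

/-- A cocone which is a colimit on sections over all affine opens is a colimit. -/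
def isColimitOfSec [Nonempty J]
    (h : ∀ (U : S.Opens) (_ : IsAffineOpen U), IsColimit ((QCAlgColim.secFun U).mapCocone c)) :
    IsColimit c where
  desc K := K35.GammaIso.homOfAffine
    (fun U hU ↦ (h U hU).desc ((QCAlgColim.secFun U).mapCocone K))
    (fun U hU r ↦ by
      apply (h U hU).hom_ext
      intro j
      have h1 := (c.ι.app j).hom.naturality (homOfLE (S.basicOpen_le r)).op
      have h2 := (K.ι.app j).hom.naturality (homOfLE (S.basicOpen_le r)).op
      have h3 := (h U hU).fac ((QCAlgColim.secFun U).mapCocone K) j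
      have h4 := (h (S.basicOpen r) (hU.basicOpen r)).fac ((QCAlgColim.secFun (S.basicOpen r)).mapCocone K) j
      change (c.ι.app j).hom.app (op U) ≫ _ = (K.ι.app j).hom.app (op U) at h3
      change (c.ι.app j).hom.app (op (S.basicOpen r)) ≫ _ = (K.ι.app j).hom.app (op (S.basicOpen r)) at h4
      change _ = (c.ι.app j).hom.app (op U) ≫ c.pt.presheaf.map (homOfLE (S.basicOpen_le r)).op at h1
      change _ = (K.ι.app j).hom.app (op U) ≫ K.pt.presheaf.map (homOfLE (S.basicOpen_le r)).op at h2
      change (c.ι.app j).hom.app (op U) ≫ c.pt.presheaf.map _ ≫ _ = (c.ι.app j).hom.app (op U) ≫ _ ≫ _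
      rw [← Category.assoc, ← h1, Category.assoc, h4, ← Category.assoc, h3, h2])
    (fun U hU ↦ by
      obtain ⟨j⟩ := ‹Nonempty J›
      have h3 := (h U hU).fac ((QCAlgColim.secFun U).mapCocone K) j
      change (c.ι.app j).hom.app (op U) ≫ _ = (K.ι.app j).hom.app (op U) at h3
      have h5 := NatTrans.congr_app (c.ι.app j).comm (op U)
      have h6 := NatTrans.congr_app (K.ι.app j).comm (op U)
      rw [NatTrans.comp_app] at h5 h6
      change c.pt.str.app (op U) ≫ _ = K.pt.str.app (op U)
      change _ = c.pt.str.app (op U) at h5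
      change _ = K.pt.str.app (op U) at h6
      rw [← h5, Category.assoc, h3, h6])
  fac K j := by
    apply K35.GammaIso.qcAlg_hom_ext
    intro U hU
    rw [RelSpec.QCAlg.comp_hom, NatTrans.comp_app, K35.GammaIso.homOfAffine_app]
    exact (h U hU).fac ((QCAlgColim.secFun U).mapCocone K) j
  uniq K m hm := by
    apply K35.GammaIso.qcAlg_hom_ext
    intro U hU
    rw [K35.GammaIso.homOfAffine_app]
    refine (h U hU).uniq ((QCAlgColim.secFun U).mapCocone K) (m.hom.app (op U)) fun j ↦ ?_
    exact congrArg (fun φ : A.obj j ⟶ K.pt ↦ φ.hom.app (op U)) (hm j)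

/-- A criterion for a cocone over a filtered diagram of rings to be a colimit. -/
def isColimitRing [IsFiltered J] {K : J ⥤ CommRingCat.{u}} (c : Cocone K)
    (hsurj : ∀ x : c.pt, ∃ (j : J) (y : K.obj j), c.ι.app j y = x)
    (hinj : ∀ (j : J) (x : K.obj j), c.ι.app j x = 0 → ∃ (k : J) (f : j ⟶ k), K.map f x = 0) :
    IsColimit c :=
  haveI : ReflectsColimit K (forget CommRingCat.{u}) := reflectsColimit_of_reflectsIsomorphisms _ _
  isColimitOfReflects (forget CommRingCat.{u}) <|
    Types.FilteredColimit.isColimitOf' _ _ (fun x ↦ by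
      obtain ⟨j, y, hy⟩ := hsurj x
      exact ⟨j, y, hy.symm⟩) (fun j (x y : K.obj j) h ↦ by
      obtain ⟨k, f, hf⟩ := hinj j (x - y) (by
        refine (map_sub (c.ι.app j).hom x y).trans ?_
        exact sub_eq_zero.mpr h)
      refine ⟨k, f, ?_⟩
      exact sub_eq_zero.mp ((map_sub (K.map f).hom x y).symm.trans hf))

end Criterion

section SpecFun

theorem specMap_id (B : RelSpec.QCAlg S) : RelSpec.QCAlg.specMap (𝟙 B) = 𝟙 B.spec := by
  apply colimit.hom_ext
  intro U
  change B.ι U.1 U.2 ≫ _ = B.ι U.1 U.2 ≫ _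
  rw [RelSpec.QCAlg.ι_specMap, Category.comp_id, RelSpec.QCAlg.id_hom, NatTrans.id_app, Spec.map_id,
    Category.id_comp]

theorem specMap_comp {A B C : RelSpec.QCAlg S} (f : A ⟶ B) (g : B ⟶ C) :
    RelSpec.QCAlg.specMap (f ≫ g) = RelSpec.QCAlg.specMap g ≫ RelSpec.QCAlg.specMap f := by
  apply colimit.hom_ext
  intro U
  change C.ι U.1 U.2 ≫ _ = C.ι U.1 U.2 ≫ _
  rw [RelSpec.QCAlg.ι_specMap, ← Category.assoc, RelSpec.QCAlg.ι_specMap, Category.assoc,
    RelSpec.QCAlg.ι_specMap, RelSpec.QCAlg.comp_hom, NatTrans.comp_app, Spec.map_comp, Category.assoc]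

variable (S) in
/-- Relative spectra as a functor. -/
@[simps]
def specFun : (RelSpec.QCAlg S)ᵒᵖ ⥤ Scheme.{u} where
  obj B := B.unop.spec
  map f := RelSpec.QCAlg.specMap f.unop
  map_id B := specMap_id B.unop
  map_comp f g := specMap_comp g.unop f.unop

variable {J : Type u} [SmallCategory J] [IsFiltered J] {A : J ⥤ RelSpec.QCAlg S} {c : Cocone A}

theorem exists_lift_specFun (hc : IsColimit c) (s : Cone (A.op ⋙ specFun S)) :
    ∃ w : s.pt ⟶ c.pt.spec, ∀ j : J, w ≫ RelSpec.QCAlg.specMap (c.ι.app j) = s.π.app (op j) :=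
  SpecLim.exists_lift hc (fun j ↦ s.π.app (op j)) fun _ _ φ ↦ s.w φ.op

/-- The relative spectrum of a filtered colimit is the limit of the relative spectra. -/
def isLimitSpecFun (hc : IsColimit c) : IsLimit ((specFun S).mapCone c.op) where
  lift s := (exists_lift_specFun hc s).choose
  fac s j := (exists_lift_specFun hc s).choose_spec j.unop
  uniq s _ hm := SpecLim.hom_ext hc fun j ↦
    (hm (op j)).trans ((exists_lift_specFun hc s).choose_spec j).symm

instance isAffineHom_specMap {A B : RelSpec.QCAlg S} (f : A ⟶ B) :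
    IsAffineHom (RelSpec.QCAlg.specMap f) := by
  have : IsAffineHom (RelSpec.QCAlg.specMap f ≫ A.π) := by
    rw [RelSpec.QCAlg.specMap_π]
    infer_instance
  exact .of_comp (RelSpec.QCAlg.specMap f) A.π

instance isAffineHom_specFun_map {J : Type u} [SmallCategory J] {A : J ⥤ RelSpec.QCAlg S} {i j : Jᵒᵖ}
    (f : i ⟶ j) : IsAffineHom ((A.op ⋙ specFun S).map f) :=
  isAffineHom_specMap (A.map f.unop)

end SpecFun

section Union

variable (C : RelSpec.QCAlg S)

local instance : C.toModule.IsQuasicoherent := isQCoh_toModule C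

theorem cl_mono {E E' : Sub C.toModule} (h : E ≤ E') (V : S.Opens) : cl E V ≤ cl E' V := by
  refine Subring.closure_mono (Set.union_subset_union_right _ ?_)
  intro s hs
  exact h V hs

theorem adj_mono {E E' : Sub C.toModule} (h : E ≤ E') (V : S.Opens) :
    (adj E).obj V ≤ (adj E').obj V := by
  intro s hs x hx
  obtain ⟨W, hW, hxW, h1⟩ := hs x hx
  exact ⟨W, hW, hxW, cl_mono C h W h1⟩

theorem qc_good (E : GoodSub C.toModule) : (adj E.1).QC :=
  qc_adj fun _ hW ↦ (qc_fg_of_good E.2 hW).1

/-- The subalgebra generated by a quasi-coherent submodule of finite type. -/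
def subAlg (E : GoodSub C.toModule) : RelSpec.QCAlg S := (adj E.1).toQCAlg (qc_good C E)

/-- Its inclusion. -/
def subι (E : GoodSub C.toModule) : subAlg C E ⟶ C := (adj E.1).ι (qc_good C E)

theorem subι_injective (E : GoodSub C.toModule) (V : S.Opens) :
    Function.Injective ((subι C E).hom.app (op V)).hom := (adj E.1).ι_injective _ V

theorem finiteType_subAlg (E : GoodSub C.toModule) {V : S.Opens} (hV : IsAffineOpen V) :
    ((subAlg C E).str.app (op V)).hom.FiniteType :=
  finiteType_adj (fun _ hW ↦ (qc_fg_of_good E.2 hW).1) hV (qc_fg_of_good E.2 hV).2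

/-- The inclusion of subalgebras. -/
def mapOfLe {N N' : SubR C} (h : ∀ U, N.obj U ≤ N'.obj U) (hN : N.QC) (hN' : N'.QC) :
    N.toQCAlg hN ⟶ N'.toQCAlg hN' where
  hom :=
    { app := fun U ↦ CommRingCat.ofHom (Subring.inclusion (h U.unop))
      naturality := fun U V i ↦ by
        ext s
        apply Subtype.ext
        rfl }
  comm := by
    ext U s
    apply Subtype.ext
    rfl

theorem mapOfLe_ι {N N' : SubR C} (h : ∀ U, N.obj U ≤ N'.obj U) (hN : N.QC) (hN' : N'.QC) :
    mapOfLe C h hN hN' ≫ N'.ι hN' = N.ι hN := rfl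

theorem mapOfLe_self {N : SubR C} (h : ∀ U, N.obj U ≤ N.obj U) (hN : N.QC) :
    mapOfLe C h hN hN = 𝟙 _ := rfl

theorem mapOfLe_comp {N N' N'' : SubR C} (h : ∀ U, N.obj U ≤ N'.obj U) (h' : ∀ U, N'.obj U ≤ N''.obj U)
    (h'' : ∀ U, N.obj U ≤ N''.obj U) (hN : N.QC) (hN' : N'.QC) (hN'' : N''.QC) :
    mapOfLe C h hN hN' ≫ mapOfLe C h' hN' hN'' = mapOfLe C h'' hN hN'' := rfl

/-- The diagram of the subalgebras. -/
def diag : GoodSub C.toModule ⥤ RelSpec.QCAlg S where
  obj E := subAlg C E
  map {E E'} h := mapOfLe C (adj_mono C (leOfHom h)) (qc_good C E) (qc_good C E')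
  map_id E := mapOfLe_self C _ (qc_good C E)
  map_comp {E E' E''} _ _ := (mapOfLe_comp C _ _ _ (qc_good C E) (qc_good C E') (qc_good C E'')).symm

/-- Its cocone. -/
def cocone : Cocone (diag C) where
  pt := C
  ι :=
    { app := fun E ↦ subι C E
      naturality := fun E E' h ↦
        (mapOfLe_ι C (adj_mono C (leOfHom h)) (qc_good C E) (qc_good C E')).trans (Category.comp_id _).symm }

/-- A quasi-coherent algebra on a qcqs scheme is the union of its subalgebras of finite type. -/
def isColimitCocone [CompactSpace S] [QuasiSeparatedSpace S] : IsColimit (cocone C) :=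
  isColimitOfSec fun U hU ↦ isColimitRing _
    (fun (x : Sec C U) ↦ by
      obtain ⟨E, hE⟩ := exists_good_mem (M := C.toModule) (U := U) hU.isCompact (asMod (B := C) x)
      exact ⟨E, ⟨x, mem_adj_of_mem hE⟩, rfl⟩)
    (fun E x hx ↦ by
      refine ⟨E, 𝟙 E, ?_⟩
      rw [CategoryTheory.Functor.map_id]
      exact subι_injective C E U (hx.trans (map_zero _).symm))

end Union

end K117.QCAlgUnion

end
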