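import Groth.Agent.Lim8.K116.DescMod
import Groth.Agent.Lim8.K117.HomStage

/-!
# Quotients of finite presentation of the pullback to a limit come from a stage
-/

set_option autoImplicit false
universe u
open CategoryTheory CategoryTheory.Limits AlgebraicGeometry Opposite TopologicalSpace

namespace K117.QuotStage

open Groth.Agent Groth.Agent.PerfB.PushPull Groth.Agent.Flat2F.BCSec K116 K116.DescMod

variable {I : Type u} [SmallCategory I] [IsCofiltered I] {D : I ⥤ Scheme.{u}} {c : Cone D}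
  [∀ {i j : I} (f : i ⟶ j), IsAffineHom (D.map f)] (hc : IsLimit c) {i : I}
  [CompactSpace (D.obj i)] [QuasiSeparatedSpace (D.obj i)]

include hc in
/-- A finitely presented quotient of the pullback to the limit of a finitely presented module comes from a stage. -/
theorem exists_quotient (F₀ : (D.obj i).Modules) (hF₀ : Coh.IsQCoh F₀) (hF₀' : CohB1.IsFP F₀) {G : c.pt.Modules}
    (hG : Coh.IsQCoh G) (hG' : CohB1.IsFP G)
    (p : (Scheme.Modules.pullback (c.π.app i)).obj F₀ ⟶ G) [Epi p] :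
    ∃ (j : I) (a : j ⟶ i) (Gj : (D.obj j).Modules) (pj : (Scheme.Modules.pullback (D.map a)).obj F₀ ⟶ Gj)
      (e : (Scheme.Modules.pullback (c.π.app j)).obj Gj ≅ G),
      CohB1.IsFP Gj ∧ Epi pj ∧
        (cmp (c.π.app j) (D.map a) (c.π.app i) (c.w a) F₀).inv ≫
          (Scheme.Modules.pullback (c.π.app j)).map pj ≫ e.hom = p := by
  have : IsAffineHom (c.π.app i) := isAffineHom_π_app D c hc i
  have hFq := FormalA.PullbackQC.isQCoh_pullback (c.π.app i) F₀ hF₀
  have hK := ModLim.isFT_kernel p hFq (FormalA.PullbackQC.isFT_pullback _ _ (ModLim.isFT_of_isFP hF₀')) hG hG'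
  have hKq := PerfA.QCohSerre.isQCoh_kernel p hFq hG
  obtain ⟨H, θ, hH, hθ⟩ := exists_epi (c.π.app i) (kernel p) hKq hK
  obtain ⟨j, a, χ, hχ⟩ := K117.HomStage.exists_hom hc hH hF₀ (θ ≫ kernel.ι p)
  let cH := cmp (c.π.app j) (D.map a) (c.π.app i) (c.w a) H
  let cG := cmp (c.π.app j) (D.map a) (c.π.app i) (c.w a) F₀
  have h1 : (Scheme.Modules.pullback (c.π.app j)).map χ ≫ cG.hom = cH.hom ≫ θ ≫ kernel.ι p := by
    rw [← hχ, pull, Iso.hom_inv_id_assoc]
  obtain ⟨e₃, h2⟩ : ∃ e₃ : cokernel (kernel.ι p) ≅ G, cokernel.π (kernel.ι p) ≫ e₃.hom = p :=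
    ⟨IsColimit.coconePointUniqueUpToIso (colimit.isColimit _)
        (Abelian.epiIsCokernelOfKernel _ (kernelIsKernel p)),
      IsColimit.comp_coconePointUniqueUpToIso_hom (colimit.isColimit _) _ WalkingParallelPair.one⟩
  refine ⟨j, a, cokernel χ, cokernel.π χ,
    PreservesCokernel.iso (Scheme.Modules.pullback (c.π.app j)) χ ≪≫
      cokernel.mapIso _ _ cH cG h1 ≪≫ cokernelEpiComp θ (kernel.ι p) ≪≫ e₃,
    Smoothlim.FPMod.isFP_cokernel χ (FormalA.PullbackQC.isFP_pullback _ _ hH)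
      (FormalA.PullbackQC.isFP_pullback _ _ hF₀'), inferInstance, ?_⟩
  rw [Iso.inv_comp_eq]
  have h3 : cokernel.π (θ ≫ kernel.ι p) ≫ (cokernelEpiComp θ (kernel.ι p)).hom = cokernel.π (kernel.ι p) := by
    simp [cokernelEpiComp]
  have h4 : cokernel.π ((Scheme.Modules.pullback (c.π.app j)).map χ) ≫ (cokernel.mapIso _ _ cH cG h1).hom =
      cG.hom ≫ cokernel.π (θ ≫ kernel.ι p) := by
    simp [cokernel.mapIso]
  have h5 := PreservesCokernel.π_iso_hom (Scheme.Modules.pullback (c.π.app j)) χ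
  simp only [Iso.trans_hom]
  rw [reassoc_of% h5, reassoc_of% h4, reassoc_of% h3, h2]

end K117.QuotStage
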