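import Groth.Agent.Flat2H.AmpleLimit
import Groth.Agent.EGA2.K30.AmpleLoc
import Groth.Agent.Ega43.LimitDescend
import Groth.Agent.PerfB.LimModInv

/-!
# Relative ampleness in a limit

* `relAmple_of_isPullback`: base change along an arbitrary cartesian square.
* `A f₀ L₀ t`: the base change of `L₀` along `t` is ample relative to the base change of `f₀`.
-/

set_option autoImplicit false
universe u
open CategoryTheory CategoryTheory.Limits AlgebraicGeometry TopologicalSpace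

namespace K117.RelAmpLim

open Groth.Agent Groth.Agent.Ega2.ExtCoeff Groth.Agent.Ega2.Nv Groth.Agent.Ega2.Ample
open Groth.Agent.Ega2.RelAmp Groth.Agent.Ega43.LimitDescend K30.AmpleLoc

theorem relAmple_of_isPullback {X X' Y Y' : Scheme.{u}} {a : X' ⟶ X} {f' : X' ⟶ Y'} {f : X ⟶ Y} {g : Y' ⟶ Y}
    (H : IsPullback a f' f g) (L : X.Modules) (hL : RelAmple.IsRelAmple f L) :
    RelAmple.IsRelAmple f' ((Scheme.Modules.pullback a).obj L) := by
  have : QuasiCompact f := hL.1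
  have : QuasiCompact f' := MorphismProperty.of_isPullback H ‹_›
  refine isRelAmple_of_forall_exists (fun y => ?_)
  obtain ⟨_, ⟨W, hW, rfl⟩, hyW, _⟩ := Y.isBasis_affineOpens.exists_subset_of_mem_open
    (show g y ∈ (⊤ : Y.Opens) from trivial) (⊤ : Y.Opens).2
  obtain ⟨_, ⟨V, hV, rfl⟩, hyV, hVW⟩ := Y'.isBasis_affineOpens.exists_subset_of_mem_open
    (show y ∈ g ⁻¹ᵁ W from hyW) (g ⁻¹ᵁ W).2
  refine ⟨V, hV, hyV, ?_⟩
  have h1 := (isRelAmple_iff.1 hL).2 ⟨W, hW⟩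
  have hle : f' ⁻¹ᵁ V ≤ a ⁻¹ᵁ (f ⁻¹ᵁ W) := by
    intro x hx
    have h2 : (a ≫ f) x = (f' ≫ g) x := by rw [H.w]
    change (a ≫ f) x ∈ W
    rw [h2]
    exact hVW hx
  refine ampleOn_of_pullMap (pullMap a L) h1 hle
    (f'.isCompact_preimage hV.isCompact) (fun A hA hAa => ?_)
  have hpb := Scheme.Hom.isPullback_resLE H (US := W) (UT := V) (UX := A)
    hVW hA (UY := f' ⁻¹ᵁ V ⊓ a ⁻¹ᵁ A) (inf_comm _ _)
  have : IsAffine _ := hW
  have : IsAffine _ := hV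
  have : IsAffine _ := hAa
  exact .of_isIso hpb.isoPullback.hom

section A

variable {X₀ B : Scheme.{u}} (f₀ : X₀ ⟶ B) (L₀ : X₀.Modules)

/-- The base change of `L₀` along `t` is ample relative to the base change of `f₀`. -/
def A {T : Scheme.{u}} (t : T ⟶ B) : Prop :=
  RelAmple.IsRelAmple (pullback.snd f₀ t) ((Scheme.Modules.pullback (pullback.fst f₀ t)).obj L₀)

variable {f₀ L₀}

/-- Transitivity of pullback. -/
noncomputable def pbIso {X Y Z : Scheme.{u}} (M : Z.Modules) (k : X ⟶ Y) (a : Y ⟶ Z) (b : X ⟶ Z) (h : k ≫ a = b) :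
    (Scheme.Modules.pullback k).obj ((Scheme.Modules.pullback a).obj M) ≅ (Scheme.Modules.pullback b).obj M :=
  (Scheme.Modules.pullbackComp k a ≪≫ Scheme.Modules.pullbackCongr h).app M

theorem A_iff {X T : Scheme.{u}} {q : X ⟶ X₀} {f : X ⟶ T} {t : T ⟶ B} (h : IsPullback q f f₀ t) :
    RelAmple.IsRelAmple f ((Scheme.Modules.pullback q).obj L₀) ↔ A f₀ L₀ t := by
  have h' := IsPullback.of_hasPullback f₀ t
  constructor
  · intro h1
    have h2 : IsPullback (h.lift (pullback.fst f₀ t) (pullback.snd f₀ t) h'.w) (pullback.snd f₀ t) f (𝟙 T) := by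
      refine IsPullback.of_right (h₁₂ := q) (h₂₂ := t) (v₁₃ := f₀) ?_ (by simp) h
      simpa using h'
    exact isRelAmple_of_iso (pbIso L₀ _ q _ (h.lift_fst _ _ _)) (relAmple_of_isPullback h2 _ h1)
  · intro h1
    have h2 : IsPullback (h'.lift q f h.w) f (pullback.snd f₀ t) (𝟙 T) := by
      refine IsPullback.of_right (h₁₂ := pullback.fst f₀ t) (h₂₂ := t) (v₁₃ := f₀) ?_ (by simp) h'
      simpa using h
    exact isRelAmple_of_iso (pbIso L₀ _ _ q (h'.lift_fst _ _ _)) (relAmple_of_isPullback h2 _ h1)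

theorem A.comp {T T' : Scheme.{u}} {t : T ⟶ B} (h : A f₀ L₀ t) (s : T' ⟶ T) : A f₀ L₀ (s ≫ t) := by
  have h1 := IsPullback.of_hasPullback f₀ t
  have h2 := IsPullback.of_hasPullback (pullback.snd f₀ t) s
  rw [← A_iff (h2.paste_horiz h1)]
  exact isRelAmple_of_iso (pbIso L₀ _ _ _ rfl) (relAmple_of_isPullback h2 _ h)

theorem A_of_cover [QuasiCompact f₀] {T : Scheme.{u}} {t : T ⟶ B} {ι : Type*} (U : ι → T.Opens) (hU : ⨆ i, U i = ⊤)
    (h : ∀ i, A f₀ L₀ ((U i).ι ≫ t)) : A f₀ L₀ t := by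
  refine (isRelAmple_iff_of_iSup_eq_top (pullback.snd f₀ t) _ U hU).mpr fun i ↦ ?_
  have h1 := IsPullback.of_hasPullback f₀ t
  have h2 := (isPullback_morphismRestrict (pullback.snd f₀ t) (U i)).flip
  refine isRelAmple_of_iso ?_ ((A_iff (h2.paste_horiz h1)).mpr (h i))
  exact (pbIso L₀ _ _ _ rfl).symm ≪≫
    (Scheme.Modules.restrictFunctorIsoPullback (pullback.snd f₀ t ⁻¹ᵁ (U i)).ι).symm.app _

theorem A_iff_isAmple {T : Scheme.{u}} [IsAffine T] {t : T ⟶ B} :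
    A f₀ L₀ t ↔ CohB1.IsAmple ((Scheme.Modules.pullback (pullback.fst f₀ t)).obj L₀) :=
  isRelAmple_iff_isAmple

end A

section Lim

theorem exists_isAmple {J : Type u} [SmallCategory J] [IsCofiltered J] {E : J ⥤ Scheme.{u}} (c : Cone E)
    (hc : IsLimit c) [∀ {i j : J} (φ : i ⟶ j), IsAffineHom (E.map φ)]
    [∀ j, CompactSpace (E.obj j)] [∀ j, QuasiSeparatedSpace (E.obj j)]
    {B X₀ : Scheme.{u}} (t : ∀ j, E.obj j ⟶ B)
    (ht : ∀ {i j : J} (φ : i ⟶ j), E.map φ ≫ t j = t i) (f₀ : X₀ ⟶ B)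
    [QuasiCompact f₀] [QuasiSeparated f₀] (L₀ : X₀.Modules) (hL₀ : PicF.IsInvertible L₀)
    (p : c.pt ⟶ B) (hp : ∀ j, c.π.app j ≫ t j = p)
    (h : CohB1.IsAmple ((Scheme.Modules.pullback (pullback.fst f₀ p)).obj L₀)) :
    ∃ j, CohB1.IsAmple ((Scheme.Modules.pullback (pullback.fst f₀ (t j))).obj L₀) := by
  obtain ⟨i⟩ := IsCofiltered.nonempty (C := J)
  have hcF := isLimitPbCone t ht f₀ c p hp (pullback.fst f₀ p) (pullback.snd f₀ p)
    (IsPullback.of_hasPullback _ _) hc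
  obtain ⟨j, φ, hj⟩ := Flat2H.AmpleLimit.exists_isAmple_pullback hcF (i := i)
    (L := (Scheme.Modules.pullback (pullback.fst f₀ (t i))).obj L₀)
    (PerfB.LimMod.isInvertible_pullback (pullback.fst f₀ (t i)) hL₀)
    (Flat2H.FamDict.isAmple_of_iso (pbIso L₀ _ _ _ (pbCone_π_fst t ht f₀ c p hp _ _ _ i)).symm h)
  exact ⟨j, Flat2H.FamDict.isAmple_of_iso (pbIso L₀ _ _ _ (pbDiagram_map_fst t ht f₀ φ)) hj⟩

variable {I : Type u} [SmallCategory I] [IsCofiltered I]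
    (D : I ⥤ Scheme.{u}) (c : Cone D) (hc : IsLimit c)
    [∀ (i j : I) (f : i ⟶ j), IsAffineHom (D.map f)] (i₀ : I)

include hc in
theorem exists_stage_open {X₀ Y₀ Y : Scheme.{u}} (f₀ : X₀ ⟶ Y₀) [QuasiCompact f₀] [QuasiSeparated f₀]
    (g₀ : Y₀ ⟶ D.obj i₀) (L₀ : X₀.Modules) (hL₀ : PicF.IsInvertible L₀)
    (qY : Y ⟶ Y₀) (g : Y ⟶ c.pt) (hY : IsPullback qY g g₀ (c.π.app i₀)) (h : A f₀ L₀ qY)
    (V : Y₀.Opens) (hV : IsAffineOpen V) :
    ∃ j : Over i₀, A f₀ L₀ ((pullback.fst g₀ (D.map j.hom) ⁻¹ᵁ V).ι ≫ pullback.fst g₀ (D.map j.hom)) := by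
  let t : ∀ j : Over i₀, (Over.forget i₀ ⋙ D).obj j ⟶ D.obj i₀ := fun j ↦ D.map j.hom
  have ht : ∀ {i j : Over i₀} (φ : i ⟶ j), (Over.forget i₀ ⋙ D).map φ ≫ t j = t i :=
    fun φ ↦ overT_w D i₀ φ
  have hp : ∀ j, (overCone c i₀).π.app j ≫ t j = c.π.app i₀ := fun j ↦ c.w j.hom
  let E := pbDiagram t ht g₀
  let cE := pbCone t ht g₀ (overCone c i₀) (c.π.app i₀) hp qY g hY
  have hcE : IsLimit cE := isLimitPbCone t ht g₀ (overCone c i₀) (c.π.app i₀) hp qY g hY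
    (isLimitOverCone c hc i₀)
  let s : ∀ j, E.obj j ⟶ Y₀ := fun j ↦ pullback.fst g₀ (t j)
  have hs : ∀ {i j : Over i₀} (φ : i ⟶ j), E.map φ ≫ s j = s i := fun φ ↦ pbDiagram_map_fst t ht g₀ φ
  have hsp : ∀ j, cE.π.app j ≫ s j = qY := fun j ↦ pbCone_π_fst t ht g₀ _ _ hp _ _ hY j
  have hEa : ∀ {i j : Over i₀} (φ : i ⟶ j), IsAffineHom (E.map φ) := fun φ ↦
    isAffineHom_pbDiagram_map t ht g₀ φ
  obtain ⟨i⟩ := IsCofiltered.nonempty (C := Over i₀)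
  have hsi : IsAffineHom (s i) := MorphismProperty.of_isPullback (IsPullback.of_hasPullback g₀ (D.map i.hom)).flip inferInstance
  let V' : (E.obj i).Opens := s i ⁻¹ᵁ V
  have hV' : IsAffineOpen V' := hV.preimage (s i)
  have haff : ∀ k : Over i, IsAffine ((opensDiagram E i V').obj k) := fun k ↦ hV'.preimage (E.map k.hom)
  have hπ : IsAffineHom (cE.π.app i) := isAffineHom_π_app E cE hcE i
  have hptaff : IsAffine (opensCone E cE i V').pt := hV'.preimage (cE.π.app i)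
  let t' : ∀ k : Over i, (opensDiagram E i V').obj k ⟶ Y₀ := fun k ↦ (E.map k.hom ⁻¹ᵁ V').ι ≫ s k.left
  obtain ⟨k, hk⟩ := exists_isAmple (opensCone E cE i V') (isLimitOpensCone E cE hcE i V') t'
    (fun {k l} φ ↦ by
      change Scheme.Hom.resLE _ _ _ _ ≫ _ ≫ _ = _ ≫ _
      rw [Scheme.Hom.resLE_comp_ι_assoc, hs])
    f₀ L₀ hL₀ ((cE.π.app i ⁻¹ᵁ V').ι ≫ qY)
    (fun k ↦ by
      change Scheme.Hom.resLE _ _ _ _ ≫ _ ≫ _ = _ ≫ _
      rw [Scheme.Hom.resLE_comp_ι_assoc, hsp])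
    (A_iff_isAmple.mp (h.comp _))
  have hA : A f₀ L₀ (t' k) := A_iff_isAmple.mpr hk
  have e : E.map k.hom ⁻¹ᵁ V' = s k.left ⁻¹ᵁ V := by
    rw [← Scheme.Hom.comp_preimage, hs]
  refine ⟨k.left, ?_⟩
  change A f₀ L₀ ((s k.left ⁻¹ᵁ V).ι ≫ s k.left)
  rw [← e]
  exact hA

include hc in
theorem exists_stage [CompactSpace (D.obj i₀)]
    {X₀ Y₀ Y : Scheme.{u}} (f₀ : X₀ ⟶ Y₀) [QuasiCompact f₀] [QuasiSeparated f₀]
    (g₀ : Y₀ ⟶ D.obj i₀) [QuasiCompact g₀] (L₀ : X₀.Modules) (hL₀ : PicF.IsInvertible L₀)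
    (qY : Y ⟶ Y₀) (g : Y ⟶ c.pt) (hY : IsPullback qY g g₀ (c.π.app i₀)) (h : A f₀ L₀ qY) :
    ∃ (j : I) (φ : j ⟶ i₀), A f₀ L₀ (pullback.fst g₀ (D.map φ)) := by
  classical
  have hYc : CompactSpace Y₀ := QuasiCompact.compactSpace_of_compactSpace g₀
  obtain ⟨S, hS, hS'⟩ := isCompact_iff_finite_and_eq_biUnion_affineOpens.mp
    (show IsCompact ((⊤ : Y₀.Opens) : Set Y₀) from isCompact_univ)
  choose j hj using fun (V : Y₀.affineOpens) ↦
    exists_stage_open D c hc i₀ f₀ g₀ L₀ hL₀ qY g hY h V.1 V.2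
  obtain ⟨k, hk⟩ := IsCofiltered.inf_objs_exists (hS.toFinset.image j)
  have hkj : ∀ V ∈ S, Nonempty (k ⟶ j V) := fun V hV ↦ hk (Finset.mem_image.mpr ⟨V, hS.mem_toFinset.mpr hV, rfl⟩)
  refine ⟨k.left, k.hom, A_of_cover (ι := S) (fun V ↦ pullback.fst g₀ (D.map k.hom) ⁻¹ᵁ V.1.1) ?_ ?_⟩
  · rw [eq_top_iff]
    intro x _
    have h1 : pullback.fst g₀ (D.map k.hom) x ∈ (⊤ : Y₀.Opens) := trivial
    rw [hS'] at h1
    obtain ⟨V, hV⟩ := Opens.mem_iSup.mp h1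
    obtain ⟨hVS, hxV⟩ := Opens.mem_iSup.mp hV
    exact Opens.mem_iSup.mpr ⟨⟨V, hVS⟩, hxV⟩
  · intro V
    obtain ⟨ψ⟩ := hkj V.1 V.2
    let m : pullback g₀ (D.map k.hom) ⟶ pullback g₀ (D.map (j V.1).hom) :=
      pullback.lift (pullback.fst _ _) (pullback.snd _ _ ≫ D.map ψ.left) (by
        rw [Category.assoc, ← D.map_comp, Over.w ψ, pullback.condition])
    have hm : m ≫ pullback.fst g₀ (D.map (j V.1).hom) = pullback.fst g₀ (D.map k.hom) := pullback.lift_fst _ _ _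
    have hle : pullback.fst g₀ (D.map k.hom) ⁻¹ᵁ V.1.1 ≤
        m ⁻¹ᵁ (pullback.fst g₀ (D.map (j V.1).hom) ⁻¹ᵁ V.1.1) := by
      rw [← Scheme.Hom.comp_preimage, hm]
    have h1 := (hj V.1).comp (m.resLE _ _ hle)
    rwa [Scheme.Hom.resLE_comp_ι_assoc, hm] at h1

end Lim

end K117.RelAmpLim
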