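import Groth.Agent.EGA2.K35.GammaIso
import Groth.Agent.QCohSup.K27.QCAlgBasic
import Groth.Prelude.Def_AffAlg
import Mathlib.AlgebraicGeometry.Morphisms.Immersion

/-!
# Immersions into a relative spectrum: schematic dominance
-/

set_option autoImplicit false
universe u
open CategoryTheory CategoryTheory.Limits AlgebraicGeometry Opposite TopologicalSpace

namespace K117.RelSpecImm

variable {X Y : Scheme.{u}}

theorem algHom_app (C : RelSpec.QCAlg Y) (g : X ⟶ C.spec) (U : Y.Opens) :
    (AffAlg.algHom C.π (g ≫ C.π) g rfl).app (op U) = g.app (C.π ⁻¹ᵁ U) := by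
  simp only [AffAlg.algHom]
  exact Category.comp_id _

/-- `φ` is injective over the affine open `U` iff `g^♯` is injective over its preimage. -/
theorem injective_app_iff (f : X ⟶ Y) [QuasiCompact f] [QuasiSeparated f] (C : RelSpec.QCAlg Y)
    (g : X ⟶ C.spec) (w : g ≫ C.π = f) (φ : C ⟶ RelSpec.QCAlg.directImage f)
    (hφ : C.gammaMap ≫ φ.hom = AffAlg.algHom C.π f g w) {U : Y.Opens} (hU : IsAffineOpen U) :
    Function.Injective (φ.hom.app (op U)).hom ↔ Function.Injective (g.app (C.π ⁻¹ᵁ U)).hom := by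
  subst w
  have h1 := NatTrans.congr_app hφ (op U)
  rw [NatTrans.comp_app, C.gammaMap_app U hU, algHom_app] at h1
  have h2 : IsIso (C.gammaAff U hU) := K35.GammaIso.isIso_gammaAff C U hU
  have h3 : Function.Bijective (C.gammaAff U hU).hom := by
    exact ConcreteCategory.bijective_of_isIso (C.gammaAff U hU)
  have h4 (x) : (g.app (C.π ⁻¹ᵁ U)).hom x = (φ.hom.app (op U)).hom ((C.gammaAff U hU).hom x) :=
    ConcreteCategory.congr_hom h1.symm x
  constructor
  · intro h x y hxy
    rw [h4, h4] at hxy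
    exact h3.1 (h hxy)
  · intro h x y hxy
    obtain ⟨x, rfl⟩ := h3.2 x
    obtain ⟨y, rfl⟩ := h3.2 y
    rw [h ((h4 x).trans (hxy.trans (h4 y).symm))]

/-- A homomorphism of quasi-coherent algebras which is injective over the affine opens is injective. -/
theorem injective_of_affine {B C : RelSpec.QCAlg Y} (φ : B ⟶ C)
    (h : ∀ U : Y.Opens, IsAffineOpen U → Function.Injective (φ.hom.app (op U)).hom) (U : Y.Opens) :
    Function.Injective (φ.hom.app (op U)).hom := by
  intro s t hst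
  refine K27.QCAlgBasic.sec_ext (B := B) s t fun x hx ↦ ?_
  obtain ⟨_, ⟨W, hW, rfl⟩, hxW, hWU⟩ := Y.isBasis_affineOpens.exists_subset_of_mem_open hx U.2
  refine ⟨W, hWU, hxW, h W hW ?_⟩
  have h1 (z : K27.QCAlgBasic.Sec B U) : (φ.hom.app (op W)).hom (K27.QCAlgBasic.rho B hWU z) =
      K27.QCAlgBasic.rho C hWU ((φ.hom.app (op U)).hom z) :=
    ConcreteCategory.congr_hom (φ.hom.naturality (homOfLE hWU).op) z
  rw [h1, h1]
  exact congrArg _ hst

theorem iSup_preimage_affineOpens {Z : Scheme.{u}} (p : Z ⟶ Y) [IsAffineHom p] :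
    ⨆ U : Y.affineOpens, ((⟨p ⁻¹ᵁ U.1, U.2.preimage p⟩ : Z.affineOpens) : Z.Opens) = ⊤ := by
  change ⨆ U : Y.affineOpens, p ⁻¹ᵁ U.1 = ⊤
  rw [← Scheme.Hom.preimage_iSup, iSup_affineOpens_eq_top, Scheme.Hom.preimage_top]

theorem ker_eq_bot_iff (f : X ⟶ Y) [QuasiCompact f] [QuasiSeparated f] (C : RelSpec.QCAlg Y)
    (g : X ⟶ C.spec) (w : g ≫ C.π = f) (φ : C ⟶ RelSpec.QCAlg.directImage f)
    (hφ : C.gammaMap ≫ φ.hom = AffAlg.algHom C.π f g w) :
    g.ker = ⊥ ↔ ∀ U : Y.Opens, Function.Injective (φ.hom.app (op U)).hom := by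
  have hqc : QuasiCompact g := by
    have : QuasiCompact (g ≫ C.π) := by rw [w]; infer_instance
    exact QuasiCompact.of_comp g C.π
  constructor
  · intro h
    refine injective_of_affine φ fun U hU ↦ ?_
    rw [injective_app_iff f C g w φ hφ hU, RingHom.injective_iff_ker_eq_bot,
      ← g.ker_apply ⟨C.π ⁻¹ᵁ U, hU.preimage C.π⟩, h]
    rfl
  · intro h
    refine Scheme.IdealSheafData.ext_of_iSup_eq_top _ (iSup_preimage_affineOpens C.π) fun U ↦ ?_
    rw [g.ker_apply, (RingHom.injective_iff_ker_eq_bot _).mp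
      ((injective_app_iff f C g w φ hφ U.2).mp (h U))]
    rfl

/-- A quasi-compact immersion with vanishing kernel is an open immersion. -/
theorem isOpenImmersion_of_ker_eq_bot {Z : Scheme.{u}} (g : X ⟶ Z) [IsImmersion g] [QuasiCompact g]
    (h : g.ker = ⊥) : IsOpenImmersion g := by
  have h1 : IsIso g.imageι := by
    rw [IsClosedImmersion.isIso_iff_ker_eq_bot]
    change g.ker.subschemeι.ker = ⊥
    rw [Scheme.IdealSheafData.ker_subschemeι, h]
  rw [← g.toImage_imageι]
  infer_instance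

end K117.RelSpecImm
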