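import Groth.Agent.Lim8.K116.ModLim4
import Groth.Agent.Lim8.K116.FlatLim
import Groth.Agent.CohqB.LocalQC
import Groth.Agent.CohqB.QC6
import Groth.Agent.Dcoh.FTFP

/-!
# Exactness of sequences of quasi-coherent modules in the limit

* `Seq F f g`: the image of the sequence `f, g` under `F` is exact; `RSeq F f g`: right exact.
* `rseq_iff_eventually`, `factors_iff_eventually`, `seq_iff_eventually` (flat transition maps).
-/

set_option autoImplicit false
universe u v w v' w'
open CategoryTheory CategoryTheory.Limits AlgebraicGeometry Opposite TopologicalSpace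

namespace K117.RightExact

open Groth.Agent K116.ModLim

section General

variable {C : Type w} [Category.{v} C] [Abelian C] {B : Type w'} [Category.{v'} B] [Abelian B]

/-- The image of the sequence `f, g` under `F` is exact. -/
def Seq (F : C ⥤ B) {X Y Z : C} (f : X ⟶ Y) (g : Y ⟶ Z) : Prop :=
  ∃ w : F.map f ≫ F.map g = 0, (ShortComplex.mk _ _ w).Exact

/-- The image of the sequence `f, g` under `F` is right exact. -/
def RSeq (F : C ⥤ B) {X Y Z : C} (f : X ⟶ Y) (g : Y ⟶ Z) : Prop :=
  ∃ w : F.map f ≫ F.map g = 0, (ShortComplex.mk _ _ w).Exact ∧ Epi (F.map g)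

theorem Seq.of_iso {F F' : C ⥤ B} (e : F ≅ F') {X Y Z : C} {f : X ⟶ Y} {g : Y ⟶ Z} (h : Seq F f g) :
    Seq F' f g := by
  obtain ⟨w, h⟩ := h
  have h1 : F'.map f = e.inv.app X ≫ F.map f ≫ e.hom.app Y := by simp
  have h2 : F'.map g = e.inv.app Y ≫ F.map g ≫ e.hom.app Z := by simp
  have w' : F'.map f ≫ F'.map g = 0 := by
    rw [h1, h2]
    simp only [Category.assoc, Iso.hom_inv_id_app_assoc]
    rw [reassoc_of% w, zero_comp, comp_zero]
  refine ⟨w', (ShortComplex.exact_iff_of_iso ?_).mp h⟩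
  exact ShortComplex.isoMk (e.app X) (e.app Y) (e.app Z) (by simp) (by simp)

theorem RSeq.of_iso {F F' : C ⥤ B} (e : F ≅ F') {X Y Z : C} {f : X ⟶ Y} {g : Y ⟶ Z} (h : RSeq F f g) :
    RSeq F' f g := by
  obtain ⟨w, h, h'⟩ := h
  obtain ⟨w', h1⟩ := Seq.of_iso e ⟨w, h⟩
  have h2 : F'.map g = e.inv.app Y ≫ F.map g ≫ e.hom.app Z := by simp
  refine ⟨w', h1, ?_⟩
  rw [h2]
  infer_instance

theorem rseq_iff_isIso_desc {X Y Z : B} (f : X ⟶ Y) (g : Y ⟶ Z) (w : f ≫ g = 0) :
    ((ShortComplex.mk f g w).Exact ∧ Epi g) ↔ IsIso (cokernel.desc f g w) := by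
  have h1 := ShortComplex.exact_iff_mono_cokernel_desc (ShortComplex.mk f g w)
  rw [h1]
  constructor
  · rintro ⟨h2, h3⟩
    have h4 : Epi (cokernel.desc f g w) := by
      have : Epi (cokernel.π f ≫ cokernel.desc f g w) := by rwa [cokernel.π_desc]
      exact epi_of_epi (cokernel.π f) _
    have h5 : Mono (cokernel.desc f g w) := h2
    exact isIso_of_mono_of_epi _
  · intro h
    refine ⟨(inferInstance : Mono (cokernel.desc f g w)), ?_⟩
    rw [← cokernel.π_desc f g w]
    infer_instance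

variable (F : C ⥤ B)

theorem rseq_iff [PreservesFiniteColimits F] [F.PreservesZeroMorphisms] {X Y Z : C} (f : X ⟶ Y) (g : Y ⟶ Z)
    (w : f ≫ g = 0) : RSeq F f g ↔ IsIso (F.map (cokernel.desc f g w)) := by
  have w' : F.map f ≫ F.map g = 0 := by rw [← F.map_comp, w, F.map_zero]
  have h1 : RSeq F f g ↔ IsIso (cokernel.desc (F.map f) (F.map g) w') := by
    rw [← rseq_iff_isIso_desc]
    exact ⟨fun ⟨_, h⟩ ↦ h, fun h ↦ ⟨w', h⟩⟩
  rw [h1, ← cokernelComparison_map_desc f F w, isIso_comp_left_iff]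

theorem seq_iff [PreservesFiniteLimits F] [F.PreservesZeroMorphisms] {X Y Z : C} (f : X ⟶ Y) (g : Y ⟶ Z)
    (w : f ≫ g = 0) : Seq F f g ↔ Epi (F.map (kernel.lift g f w)) := by
  have w' : F.map f ≫ F.map g = 0 := by rw [← F.map_comp, w, F.map_zero]
  have h1 : Seq F f g ↔ Epi (kernel.lift (F.map g) (F.map f) w') := by
    rw [← ShortComplex.exact_iff_epi_kernel_lift (ShortComplex.mk _ _ w')]
    exact ⟨fun ⟨_, h⟩ ↦ h, fun h ↦ ⟨w', h⟩⟩
  rw [h1, ← map_lift_kernelComparison g F w]
  constructor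
  · intro h
    have h2 : F.map (kernel.lift g f w) =
        (F.map (kernel.lift g f w) ≫ kernelComparison g F) ≫ inv (kernelComparison g F) := by simp
    rw [h2]
    exact epi_comp _ _
  · intro h
    exact epi_comp _ _

/-- For a right exact functor and an epimorphism `p`: `F q` factors through `F p` iff `F` kills `ker p ⟶ q`. -/
theorem factors_iff [PreservesFiniteColimits F] [F.PreservesZeroMorphisms] {X Y Z : C} (p : X ⟶ Y) [Epi p]
    (q : X ⟶ Z) : (∃ k : F.obj Y ⟶ F.obj Z, F.map p ≫ k = F.map q) ↔ F.map (kernel.ι p ≫ q) = F.map 0 := by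
  rw [F.map_zero, F.map_comp]
  constructor
  · rintro ⟨k, hk⟩
    rw [← hk, ← Category.assoc, ← F.map_comp, kernel.condition, F.map_zero, zero_comp]
  · intro h
    let S : ShortComplex C := ShortComplex.mk (kernel.ι p) p (kernel.condition p)
    have hS : S.Exact := ShortComplex.exact_of_f_is_kernel _ (kernelIsKernel p)
    have h1 : (S.map F).Exact :=
      hS.map_of_epi_of_preservesCokernel _ (inferInstanceAs (Epi p)) inferInstance
    have h2 : Epi (S.map F).g := inferInstanceAs (Epi (F.map p))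
    exact ⟨h1.desc (F.map q) h, h1.g_desc (F.map q) h⟩

end General

section Pull

variable {X W W' : Scheme.{u}} (k : W' ⟶ W) (a : W ⟶ X) (a' : W' ⟶ X) (h : k ≫ a = a')

/-- Pullback is transitive. -/
noncomputable def pbIso (h : k ≫ a = a') :
    Scheme.Modules.pullback a ⋙ Scheme.Modules.pullback k ≅ Scheme.Modules.pullback a' :=
  Scheme.Modules.pullbackComp k a ≪≫ Scheme.Modules.pullbackCongr h

include h in
theorem seq_comp_iff {M N P : X.Modules} (f : M ⟶ N) (g : N ⟶ P) :
    Seq (Scheme.Modules.pullback k) ((Scheme.Modules.pullback a).map f) ((Scheme.Modules.pullback a).map g) ↔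
      Seq (Scheme.Modules.pullback a') f g :=
  ⟨fun H ↦ Seq.of_iso (pbIso k a a' h) (F := Scheme.Modules.pullback a ⋙ Scheme.Modules.pullback k) H,
    fun H ↦ Seq.of_iso (pbIso k a a' h).symm H⟩

include h in
theorem rseq_comp_iff {M N P : X.Modules} (f : M ⟶ N) (g : N ⟶ P) :
    RSeq (Scheme.Modules.pullback k) ((Scheme.Modules.pullback a).map f) ((Scheme.Modules.pullback a).map g) ↔
      RSeq (Scheme.Modules.pullback a') f g :=
  ⟨fun H ↦ RSeq.of_iso (pbIso k a a' h) (F := Scheme.Modules.pullback a ⋙ Scheme.Modules.pullback k) H,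
    fun H ↦ RSeq.of_iso (pbIso k a a' h).symm H⟩

end Pull

section Lim

variable {I : Type u} [SmallCategory I] [IsCofiltered I] {D : I ⥤ Scheme.{u}} {c : Cone D}
  [∀ {i j : I} (f : i ⟶ j), IsAffineHom (D.map f)] (hc : IsLimit c) {i : I}
  {F G H : (D.obj i).Modules} [CompactSpace (D.obj i)]

include hc in
/-- Right exactness in the limit is right exactness at a stage. -/
theorem rseq_iff_eventually (hF : Coh.IsQCoh F) (hF' : CohB1.IsFT F) (hG : Coh.IsQCoh G) (hG' : CohB1.IsFT G)
    (hH : Coh.IsQCoh H) (hH' : CohB1.IsFP H) (f : F ⟶ G) (g : G ⟶ H) :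
    RSeq (Scheme.Modules.pullback (c.π.app i)) f g ↔
      ∃ (j : I) (a : j ⟶ i), RSeq (Scheme.Modules.pullback (D.map a)) f g := by
  constructor
  · rintro ⟨w, h⟩
    obtain ⟨j, a, hj⟩ := (map_eq_iff hc hF hF' hH (f ≫ g) 0).mp (by
      rw [Functor.map_comp, w, Functor.map_zero])
    rw [Functor.map_comp, Functor.map_zero] at hj
    have hFj := FormalA.PullbackQC.isQCoh_pullback (D.map a) F hF
    have hGj := FormalA.PullbackQC.isQCoh_pullback (D.map a) G hG
    have hHj := FormalA.PullbackQC.isQCoh_pullback (D.map a) H hH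
    have hGj' := FormalA.PullbackQC.isFT_pullback (D.map a) G hG'
    have hHj' := FormalA.PullbackQC.isFP_pullback (D.map a) H hH'
    have hcok := PerfA.QCohSerre.isQCoh_cokernel ((Scheme.Modules.pullback (D.map a)).map f) hFj hGj
    have hcok' : CohB1.IsFT (cokernel ((Scheme.Modules.pullback (D.map a)).map f)) :=
      CohqB.LocalQC.isFT_of_epi (cokernel.π _) hGj'
    have : CompactSpace (D.obj j) := QuasiCompact.compactSpace_of_compactSpace (D.map a)
    have h1 : RSeq (Scheme.Modules.pullback (c.π.app j)) ((Scheme.Modules.pullback (D.map a)).map f)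
      ((Scheme.Modules.pullback (D.map a)).map g) := (rseq_comp_iff _ _ _ (c.w a) f g).mpr ⟨w, h⟩
    rw [rseq_iff _ _ _ hj, isIso_iff_eventually hc hcok hcok' hHj hHj'] at h1
    obtain ⟨k, b, hk⟩ := h1
    rw [← rseq_iff _ _ _ hj] at hk
    exact ⟨k, b ≫ a, (rseq_comp_iff _ _ _ (D.map_comp b a).symm f g).mp hk⟩
  · rintro ⟨j, a, w, h⟩
    refine (rseq_comp_iff _ _ _ (c.w a) f g).mp ?_
    rw [rseq_iff _ _ _ w]
    have h1 : IsIso (cokernel.desc _ _ w) := (rseq_iff_isIso_desc _ _ w).mp h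
    infer_instance

include hc in
theorem factors_iff_eventually (hF : Coh.IsQCoh F) (hF' : CohB1.IsFT F) (hG : Coh.IsQCoh G) (hG' : CohB1.IsFP G)
    (hH : Coh.IsQCoh H) (p : F ⟶ G) [Epi p] (q : F ⟶ H) :
    (∃ k, (Scheme.Modules.pullback (c.π.app i)).map p ≫ k = (Scheme.Modules.pullback (c.π.app i)).map q) ↔
      ∃ (j : I) (a : j ⟶ i), (∃ k, (Scheme.Modules.pullback (D.map a)).map p ≫ k =
        (Scheme.Modules.pullback (D.map a)).map q) := by
  rw [factors_iff, map_eq_iff hc (PerfA.QCohSerre.isQCoh_kernel p hF hG) (isFT_kernel p hF hF' hG hG') hH]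
  refine exists_congr fun j ↦ exists_congr fun a ↦ ?_
  rw [factors_iff]

include hc in
/-- Exactness in the limit is exactness at a stage, for flat transition maps. -/
theorem seq_iff_eventually (hfl : ∀ (j : I) (a : j ⟶ i), Flat (D.map a))
    (hfl' : ∀ (j k : I) (b : k ⟶ j) (_ : j ⟶ i), Flat (D.map b))
    (hF : Coh.IsQCoh F) (hG : Coh.IsQCoh G)
    (hH : Coh.IsQCoh H) (f : F ⟶ G) (g : G ⟶ H) (hIm : CohB1.IsFT (image f)) (hKer : CohB1.IsFT (kernel g)) :
    Seq (Scheme.Modules.pullback (c.π.app i)) f g ↔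
      ∃ (j : I) (a : j ⟶ i), Seq (Scheme.Modules.pullback (D.map a)) f g := by
  have hflπ : Flat (c.π.app i) := K116.FlatLim.flat_π hc i hfl
  constructor
  · rintro ⟨w, h⟩
    have hImq : Coh.IsQCoh (image f) :=
      PerfA.QCohSerre.isQCoh_of_iso (Abelian.imageIsoImage f) (CohqB.QC6.isQCoh_image f hF hG)
    obtain ⟨j, a, hj⟩ := (map_eq_iff hc hImq hIm hH (image.ι f ≫ g) 0).mp (by
      rw [Functor.map_zero]
      rw [← cancel_epi ((Scheme.Modules.pullback (c.π.app i)).map (factorThruImage f)), ← Functor.map_comp,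
        image.fac_assoc, Functor.map_comp, w, comp_zero])
    have hj' : (Scheme.Modules.pullback (D.map a)).map f ≫ (Scheme.Modules.pullback (D.map a)).map g = 0 := by
      rw [← Functor.map_comp, ← image.fac f, Category.assoc, Functor.map_comp, hj, Functor.map_zero,
        comp_zero]
    have := hfl j a
    have hFj := FormalA.PullbackQC.isQCoh_pullback (D.map a) F hF
    have hGj := FormalA.PullbackQC.isQCoh_pullback (D.map a) G hG
    have hHj := FormalA.PullbackQC.isQCoh_pullback (D.map a) H hH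
    have hk := PerfA.QCohSerre.isQCoh_kernel ((Scheme.Modules.pullback (D.map a)).map g) hGj hHj
    have hk' : CohB1.IsFT (kernel ((Scheme.Modules.pullback (D.map a)).map g)) := by
      have h1 := FormalA.PullbackQC.isFT_pullback (D.map a) (kernel g) hKer
      exact Dcoh.FTFP.isFT_of_iso (PreservesKernel.iso (Scheme.Modules.pullback (D.map a)) g) h1
    have : CompactSpace (D.obj j) := QuasiCompact.compactSpace_of_compactSpace (D.map a)
    have h1 : Seq (Scheme.Modules.pullback (c.π.app j)) ((Scheme.Modules.pullback (D.map a)).map f)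
      ((Scheme.Modules.pullback (D.map a)).map g) := (seq_comp_iff _ _ _ (c.w a) f g).mpr ⟨w, h⟩
    have hflj : Flat (c.π.app j) := K116.FlatLim.flat_π hc j fun k b ↦ hfl' j k b a
    rw [seq_iff _ _ _ hj', epi_iff_eventually hc hFj hk hk'] at h1
    obtain ⟨k, b, hkb⟩ := h1
    have := hfl' j k b a
    rw [← seq_iff _ _ _ hj'] at hkb
    exact ⟨k, b ≫ a, (seq_comp_iff _ _ _ (D.map_comp b a).symm f g).mp hkb⟩
  · rintro ⟨j, a, w, h⟩
    refine (seq_comp_iff _ _ _ (c.w a) f g).mp ?_
    have hflj : Flat (c.π.app j) := K116.FlatLim.flat_π hc j fun k b ↦ hfl' j k b a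
    rw [seq_iff _ _ _ w]
    have h1 : Epi (kernel.lift _ _ w) := (ShortComplex.exact_iff_epi_kernel_lift (ShortComplex.mk _ _ w)).mp h
    infer_instance

end Lim

end K117.RightExact
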