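import Groth.Agent.Lim8.K117.Desc
import Groth.Agent.Lim8.K116.FlatLim
import Groth.Agent.Ega4dB.SchDense
import Groth.Agent.Ega43.LimitDescendIso
import Mathlib.AlgebraicGeometry.Morphisms.SchemeTheoreticallyDominant

/-!
# Schematic density in limits with flat transition maps
-/

set_option autoImplicit false
universe u
open CategoryTheory CategoryTheory.Limits AlgebraicGeometry TopologicalSpace

namespace K117.SchDense

open Groth.Agent.Ega43.LimitDescend

theorem toImage_dominant {X Y : Scheme.{u}} (f : X ⟶ Y) [QuasiCompact f] :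
    IsSchemeTheoreticallyDominant f.toImage := by
  rw [isSchemeTheoreticallyDominant_iff]
  have hcov : ⨆ U : Y.affineOpens, f.imageι ⁻¹ᵁ U.1 = ⊤ := by
    rw [← Scheme.Hom.preimage_iSup, iSup_affineOpens_eq_top]
    rfl
  refine Scheme.IdealSheafData.ext_of_iSup_eq_top
    (fun U : Y.affineOpens => ⟨f.imageι ⁻¹ᵁ U.1, U.2.preimage f.imageι⟩) hcov ?_
  intro U
  rw [Scheme.Hom.ker_apply]
  simpa using (RingHom.injective_iff_ker_eq_bot _).mp (f.toImage_app_injective U)

/-- A quasi-compact open with scheme-theoretically dominant inclusion is schematically dense. -/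
theorem dense_of_dominant {X : Scheme.{u}} (U : X.Opens)
    [IsSchemeTheoreticallyDominant U.ι] [QuasiCompact U.ι] : CInt.IsSchematicallyDense U := by
  intro V
  rw [injective_iff_map_eq_zero]
  intro s hs
  apply U.ι.app_injective V
  rw [map_zero, Scheme.Opens.ι_app]
  have hle : U.ι ''ᵁ U.ι ⁻¹ᵁ V ≤ V ⊓ U := by
    rintro y ⟨⟨y, hy'⟩, hy, rfl⟩
    exact ⟨hy, hy'⟩
  have h3 : (X.presheaf.map (homOfLE hle).op).hom
      ((X.presheaf.map (homOfLE (inf_le_left : V ⊓ U ≤ V)).op).hom s) = 0 := by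
    have hs' : (X.presheaf.map (homOfLE (inf_le_left : V ⊓ U ≤ V)).op).hom s = 0 := hs
    rw [hs', map_zero]
  rw [← CommRingCat.comp_apply, ← Functor.map_comp] at h3
  exact h3

/-- For `g` flat: `g ⁻¹ U` is schematically dense iff the base change along `g` of the schematic closure of `U` is an
isomorphism. -/
theorem dense_iff_isIso {X X' : Scheme.{u}} (g : X' ⟶ X) [Flat g] (U : X.Opens) [QuasiCompact U.ι] :
    CInt.IsSchematicallyDense (g ⁻¹ᵁ U) ↔ IsIso (pullback.snd U.ι.imageι g) := by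
  have hp := isPullback_morphismRestrict g U
  have hqc : QuasiCompact (g ⁻¹ᵁ U).ι := MorphismProperty.of_isPullback hp.flip.flip ‹QuasiCompact U.ι›
  have hb := IsPullback.of_hasPullback U.ι.imageι g
  let t : (g ⁻¹ᵁ U).toScheme ⟶ pullback U.ι.imageι g :=
    pullback.lift ((g ∣_ U) ≫ U.ι.toImage) (g ⁻¹ᵁ U).ι (by
      rw [Category.assoc, Scheme.Hom.toImage_imageι, hp.w])
  have ht : t ≫ pullback.snd U.ι.imageι g = (g ⁻¹ᵁ U).ι := pullback.lift_snd _ _ _
  have ht' : t ≫ pullback.fst U.ι.imageι g = (g ∣_ U) ≫ U.ι.toImage := pullback.lift_fst _ _ _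
  have hs : IsPullback (g ∣_ U) t U.ι.toImage (pullback.fst U.ι.imageι g) := by
    refine IsPullback.of_bot ?_ ht'.symm hb
    rw [ht, Scheme.Hom.toImage_imageι]
    exact hp
  constructor
  · intro h
    have h1 := Groth.Agent.Ega4dB.SchDense.isSchemeTheoreticallyDominant_ι _ h
    rw [IsClosedImmersion.isIso_iff_ker_eq_bot, ← le_bot_iff, ← h1.ker_eq_bot, ← ht]
    exact Scheme.Hom.le_ker_comp _ _
  · intro h
    have h1 := toImage_dominant U.ι
    have h2 : IsSchemeTheoreticallyDominant t := .of_isPullback hs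
    have h3 : IsSchemeTheoreticallyDominant (g ⁻¹ᵁ U).ι := by
      rw [← ht]
      infer_instance
    exact dense_of_dominant _

theorem dense_iff {I : Type u} [SmallCategory I]
    [IsCofiltered I] (D : I ⥤ Scheme.{u}) (c : Cone D) (hc : IsLimit c)
    [∀ (i j : I) (g : i ⟶ j), IsAffineHom (D.map g)] (i₀ : I) [∀ (i : I) (g : i ⟶ i₀), Flat (D.map g)]
    [IsNoetherian (D.obj i₀)] (U₀ : (D.obj i₀).Opens) :
    CInt.IsSchematicallyDense ((c.π.app i₀) ⁻¹ᵁ U₀) ↔
      ∃ (i : I) (g : i ⟶ i₀), CInt.IsSchematicallyDense ((D.map g) ⁻¹ᵁ U₀) := by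
  have : Flat (c.π.app i₀) := K116.FlatLim.flat_π hc i₀ fun _ _ ↦ inferInstance
  have hfp : LocallyOfFinitePresentation U₀.ι.imageι := inferInstance
  rw [dense_iff_isIso, ← MorphismProperty.isomorphisms.iff,
    K117.Desc.iff_stage (K117.Desc.descendsAffine_of_descendsLim Groth.Agent.Ega43.LimitDescendIso.descendsLim_isomorphisms) D c hc i₀
      U₀.ι.imageι ⟨⟨hfp, inferInstance⟩, inferInstance⟩]
  simp_rw [MorphismProperty.isomorphisms.iff, dense_iff_isIso]

end K117.SchDense
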