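import Groth.Agent.Lim8.K117.QCAlgColim
import Mathlib.AlgebraicGeometry.Gluing

/-!
# The relative spectrum of a filtered colimit of quasi-coherent algebras is the limit of the relative spectra
-/

set_option autoImplicit false
universe u

open CategoryTheory CategoryTheory.Limits AlgebraicGeometry TopologicalSpace Opposite

namespace K117.SpecLim

variable {S : Scheme.{u}} {J : Type u} [SmallCategory J] [IsFiltered J]
  {A : J ⥤ RelSpec.QCAlg S} {c : Cocone A}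

/-- The spectrum of the sections of the colimit over an affine open is the limit of the spectra of the sections. -/
noncomputable def isLimitSpecSec (hc : IsColimit c) {U : S.Opens} (hU : IsAffineOpen U) :
    IsLimit (Scheme.Spec.mapCone ((QCAlgColim.secFun U).mapCocone c).op) :=
  isLimitOfPreserves Scheme.Spec (QCAlgColim.isColimitSec A hc hU).op

theorem exists_chartLift (B : RelSpec.QCAlg S) {U : S.Opens} (hU : IsAffineOpen U) {T : Scheme.{u}}
    (v : T ⟶ B.spec) (h : ∀ x : T, (v ≫ B.π) x ∈ U) :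
    ∃ y : T ⟶ Spec (B.presheaf.obj (op U)), y ≫ B.ι U hU = v := by
  have h1 : Set.range v ⊆ Set.range (B.ι U hU) := by
    rintro _ ⟨x, rfl⟩
    have h2 : v x ∈ B.π ⁻¹ᵁ U := h x
    rw [B.π_preimage U hU] at h2
    exact h2
  exact ⟨IsOpenImmersion.lift (B.ι U hU) v h1, IsOpenImmersion.lift_fac _ _ _⟩

omit [IsFiltered J] in
theorem chart_w {U : S.Opens} (hU : IsAffineOpen U) {T : Scheme.{u}} (j : J)
    (y : T ⟶ Spec (c.pt.presheaf.obj (op U))) :
    (y ≫ c.pt.ι U hU) ≫ RelSpec.QCAlg.specMap (c.ι.app j) =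
      (y ≫ Spec.map ((c.ι.app j).hom.app (op U))) ≫ (A.obj j).ι U hU := by
  rw [Category.assoc, RelSpec.QCAlg.ι_specMap, Category.assoc]

theorem hom_ext_of_mem (hc : IsColimit c) {U : S.Opens} (hU : IsAffineOpen U) {T : Scheme.{u}}
    {w w' : T ⟶ c.pt.spec} (hw : ∀ x : T, (w ≫ c.pt.π) x ∈ U) (hw' : ∀ x : T, (w' ≫ c.pt.π) x ∈ U)
    (h : ∀ j, w ≫ RelSpec.QCAlg.specMap (c.ι.app j) = w' ≫ RelSpec.QCAlg.specMap (c.ι.app j)) :
    w = w' := by
  obtain ⟨y, rfl⟩ := exists_chartLift c.pt hU w hw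
  obtain ⟨y', rfl⟩ := exists_chartLift c.pt hU w' hw'
  congr 1
  apply (isLimitSpecSec hc hU).hom_ext
  intro j
  change y ≫ Spec.map ((c.ι.app j.unop).hom.app (op U)) = y' ≫ Spec.map ((c.ι.app j.unop).hom.app (op U))
  have h1 := h j.unop
  rw [chart_w, chart_w] at h1
  exact (cancel_mono ((A.obj j.unop).ι U hU)).mp h1

theorem π_eq {T : Scheme.{u}} {w w' : T ⟶ c.pt.spec}
    (h : ∀ j, w ≫ RelSpec.QCAlg.specMap (c.ι.app j) = w' ≫ RelSpec.QCAlg.specMap (c.ι.app j)) :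
    w ≫ c.pt.π = w' ≫ c.pt.π := by
  obtain ⟨j⟩ := IsFiltered.nonempty (C := J)
  have hj : RelSpec.QCAlg.specMap (c.ι.app j) ≫ (A.obj j).π = c.pt.π :=
    RelSpec.QCAlg.specMap_π (c.ι.app j)
  rw [← hj, ← Category.assoc, h j, Category.assoc]

theorem hom_ext (hc : IsColimit c) {T : Scheme.{u}} {w w' : T ⟶ c.pt.spec}
    (h : ∀ j, w ≫ RelSpec.QCAlg.specMap (c.ι.app j) = w' ≫ RelSpec.QCAlg.specMap (c.ι.app j)) :
    w = w' := by
  have hπ := π_eq h
  let q := w ≫ c.pt.π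
  refine Scheme.Cover.hom_ext (T.openCoverOfIsOpenCover _
    (.comap (iSup_affineOpens_eq_top S) q.base.hom)) _ _ fun U ↦ ?_
  change (q ⁻¹ᵁ U.1).ι ≫ w = (q ⁻¹ᵁ U.1).ι ≫ w'
  refine hom_ext_of_mem hc U.2 (fun x ↦ ?_) (fun x ↦ ?_) (fun j ↦ ?_)
  · rw [Category.assoc]
    exact x.2
  · rw [Category.assoc, ← hπ]
    exact x.2
  · rw [Category.assoc, h j, Category.assoc]

theorem exists_of_mem (hc : IsColimit c) {U : S.Opens} (hU : IsAffineOpen U) {T : Scheme.{u}}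
    (v : ∀ j : J, T ⟶ (A.obj j).spec) (hq : ∀ (j : J) (x : T), (v j ≫ (A.obj j).π) x ∈ U)
    (hv : ∀ (j j' : J) (φ : j ⟶ j'), v j' ≫ RelSpec.QCAlg.specMap (A.map φ) = v j) :
    ∃ w : T ⟶ c.pt.spec, ∀ j : J, w ≫ RelSpec.QCAlg.specMap (c.ι.app j) = v j := by
  choose y hy using fun j ↦ exists_chartLift (A.obj j) hU (v j) (hq j)
  have hyw (j j' : J) (φ : j ⟶ j') : y j' ≫ Spec.map ((A.map φ).hom.app (op U)) = y j := by
    rw [← cancel_mono ((A.obj j).ι U hU), Category.assoc, ← RelSpec.QCAlg.ι_specMap, ← Category.assoc,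
      hy, hy, hv]
  let s : Cone ((A ⋙ QCAlgColim.secFun U).op ⋙ Scheme.Spec) :=
    { pt := T
      π := { app := fun j ↦ y j.unop
             naturality := fun j j' φ ↦ (Category.id_comp _).trans (hyw _ _ φ.unop).symm } }
  let z := (isLimitSpecSec hc hU).lift s
  have hz (j : J) : z ≫ Spec.map ((c.ι.app j).hom.app (op U)) = y j :=
    (isLimitSpecSec hc hU).fac s (op j)
  exact ⟨z ≫ c.pt.ι U hU, fun j ↦ by rw [chart_w, hz, hy]⟩

theorem exists_lift (hc : IsColimit c) {T : Scheme.{u}} (v : ∀ j : J, T ⟶ (A.obj j).spec)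
    (hv : ∀ (j j' : J) (φ : j ⟶ j'), v j' ≫ RelSpec.QCAlg.specMap (A.map φ) = v j) :
    ∃ w : T ⟶ c.pt.spec, ∀ j : J, w ≫ RelSpec.QCAlg.specMap (c.ι.app j) = v j := by
  obtain ⟨j₀⟩ := IsFiltered.nonempty (C := J)
  have hv' {j j' : J} (φ : j ⟶ j') : v j ≫ (A.obj j).π = v j' ≫ (A.obj j').π := by
    rw [← hv j j' φ, Category.assoc, RelSpec.QCAlg.specMap_π]
  let q : T ⟶ S := v j₀ ≫ (A.obj j₀).π
  have hq (j : J) : v j ≫ (A.obj j).π = q :=
    (hv' (IsFiltered.leftToMax j j₀)).trans (hv' (IsFiltered.rightToMax j j₀)).symm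
  let 𝒰 : T.OpenCover := T.openCoverOfIsOpenCover _ (.comap (iSup_affineOpens_eq_top S) q.base.hom)
  have h1 (U : S.affineOpens) : ∃ w : (q ⁻¹ᵁ U.1).toScheme ⟶ c.pt.spec,
      ∀ j : J, w ≫ RelSpec.QCAlg.specMap (c.ι.app j) = (q ⁻¹ᵁ U.1).ι ≫ v j := by
    refine exists_of_mem hc U.2 _ (fun j x ↦ ?_) (fun j j' φ ↦ ?_)
    · rw [Category.assoc, hq]
      exact x.2
    · rw [Category.assoc, hv]
  choose w hw using h1
  let w' : ∀ U : 𝒰.I₀, 𝒰.X U ⟶ c.pt.spec := fun U ↦ w U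
  have hw' (U : 𝒰.I₀) (j : J) : w' U ≫ RelSpec.QCAlg.specMap (c.ι.app j) = 𝒰.f U ≫ v j := hw U j
  refine ⟨𝒰.glueMorphisms w' fun U V ↦ ?_, fun j ↦ ?_⟩
  · apply hom_ext hc
    intro j
    rw [Category.assoc, Category.assoc, hw', hw', ← Category.assoc, pullback.condition, Category.assoc]
  · refine Scheme.Cover.hom_ext 𝒰 _ _ fun U ↦ ?_
    rw [Scheme.Cover.ι_glueMorphisms_assoc, hw']

end K117.SpecLim
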